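import Cfsg.Agent.Lib.CosetEnum.U62Mult.CoverDefs

/-! Kernel checks on the covers. -/

set_option autoImplicit false
set_option maxRecDepth 100000

namespace Cfsg.Lib.CosetEnum.U62Mult

theorem permB_ok : permOK tabB 8 2816 relsB 2816 0 = true := by decide +kernel

theorem permC_ok : permOK tabC 8 2816 relsC 2816 0 = true := by decide +kernel

theorem centralB_ok : (lettersOK relX && centralT tabB relX 2816 0) = true := by decide +kernel

theorem centralC_ok : (lettersOK relCw && centralT tabC relCw 2816 0) = true := by decide +kernel

theorem centralB_ne : Nat.beq (twalk tabB 8 relX 0) 0 = false := by decide +kernel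

theorem centralC_ne : Nat.beq (twalk tabC 8 relCw 0) 0 = false := by decide +kernel

theorem noncomm_ok : Nat.beq (twalk tabB 8 [0, 1] 3) (twalk tabB 8 [1, 0] 3) = false := by decide +kernel

theorem centres_iso : ((List.range 8).all fun g => decide (GF4.herm (GF4.vec (Fi22U62Pts.centres.getD g 0))
    (GF4.vec (Fi22U62Pts.centres.getD g 0)) = 0)) = true := by decide +kernel

theorem scal_ok : ((pairRels ++ [relConj, relCw, relX, relCox, []]).all (scalOK 1) &&
    scalOK 2 relHex) = true := by decide +kernel

theorem edges_ok : ([(0, 1), (1, 2), (1, 5), (2, 3), (3, 4), (3, 7), (5, 6), (6, 7)].all fun p =>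
    pairRels.any (beqW [p.1, p.2, p.1, p.2, p.1, p.2])) = true := by decide +kernel

theorem cox_ok : (Nat.beq (relCox.length % 2) 1 && lettersOK relCox) = true := by decide +kernel

end Cfsg.Lib.CosetEnum.U62Mult
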