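import Mathlib

/-!
# Homomorphisms from the product of cyclic groups of orders three, two and two
-/

set_option autoImplicit false

namespace Cfsg.Lib.CosetEnum.U62Mult

/-- The product of powers. -/
def cenVal {G : Type*} [Group G] (c a b : G) (t : ZMod 3 × ZMod 2 × ZMod 2) : G :=
  c ^ t.1.val * (a ^ t.2.1.val * b ^ t.2.2.val)

theorem cenVal_add {G : Type*} [Group G] {c a b : G} (hc : c ^ 3 = 1) (ha : a ^ 2 = 1) (hb : b ^ 2 = 1)
    (hca : Commute c a) (hcb : Commute c b) (hab : Commute a b) (s t : ZMod 3 × ZMod 2 × ZMod 2) :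
    cenVal c a b (s + t) = cenVal c a b s * cenVal c a b t := by
  have h : ∀ (g : G) (n : ℕ) [NeZero n] (x y : ZMod n), g ^ n = 1 →
      g ^ (x + y).val = g ^ x.val * g ^ y.val := fun g n _ x y e => by
    rw [ZMod.val_add, ← pow_add, ← pow_eq_pow_mod _ e]
  simp only [cenVal, Prod.fst_add, Prod.snd_add]
  rw [h c 3 _ _ hc, h a 2 _ _ ha, h b 2 _ _ hb]
  have e1 : c ^ t.1.val * (a ^ s.2.1.val * b ^ s.2.2.val) =
      (a ^ s.2.1.val * b ^ s.2.2.val) * c ^ t.1.val :=
    ((hca.pow_pow _ _).mul_right (hcb.pow_pow _ _)).eq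
  have e2 : a ^ t.2.1.val * b ^ s.2.2.val = b ^ s.2.2.val * a ^ t.2.1.val := (hab.pow_pow _ _).eq
  calc c ^ s.1.val * c ^ t.1.val * (a ^ s.2.1.val * a ^ t.2.1.val * (b ^ s.2.2.val * b ^ t.2.2.val))
      = c ^ s.1.val * c ^ t.1.val * (a ^ s.2.1.val * (a ^ t.2.1.val * b ^ s.2.2.val) * b ^ t.2.2.val) := by
        simp only [mul_assoc]
    _ = c ^ s.1.val * (c ^ t.1.val * (a ^ s.2.1.val * b ^ s.2.2.val)) * (a ^ t.2.1.val * b ^ t.2.2.val) := by
        rw [e2]; simp only [mul_assoc]
    _ = _ := by rw [e1]; simp only [mul_assoc]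

/-- The homomorphism with the given images of the three generators. -/
def threeHom {G : Type*} [Group G] {c a b : G} (hc : c ^ 3 = 1) (ha : a ^ 2 = 1) (hb : b ^ 2 = 1)
    (hca : Commute c a) (hcb : Commute c b) (hab : Commute a b) :
    Multiplicative (ZMod 3 × ZMod 2 × ZMod 2) →* G :=
  MonoidHom.mk' (fun t => cenVal c a b t.toAdd)
    fun s t => cenVal_add hc ha hb hca hcb hab s.toAdd t.toAdd

/-- A subgroup embedded in the subgroup of three such elements is an image of the product. -/
theorem exists_surjective_six {E Q : Type*} [Group E] [Group Q] (H : Subgroup E) (ι : E →* Q)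
    (hι : Function.Injective ι) {c a b : Q} (hc : c ^ 3 = 1) (ha : a ^ 2 = 1) (hb : b ^ 2 = 1)
    (hca : Commute c a) (hcb : Commute c b) (hab : Commute a b)
    (hH : ∀ e ∈ H, ι e ∈ (threeHom hc ha hb hca hcb hab).range) :
    ∃ p : Multiplicative (ZMod 3 × ZMod 2 × ZMod 2) →* H, Function.Surjective p := by
  classical
  set φ := threeHom hc ha hb hca hcb hab
  let M := H.map ι
  have hM : ∀ q ∈ M, q ∈ φ.range := by rintro _ ⟨e, he, rfl⟩; exact hH e he
  have hcomm : ∀ q ∈ M, ∀ r ∈ M, Commute q r := by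
    intro q hq r hr
    obtain ⟨s, rfl⟩ := hM q hq
    obtain ⟨t, rfl⟩ := hM r hr
    exact (Commute.all s t).map φ
  let c' : Q := if c ∈ M then c else 1
  let a' : Q := if a ∈ M then a else if a * b ∈ M then a * b else 1
  let b' : Q := if b ∈ M then b else 1
  have hc'M : c' ∈ M := by unfold c'; split_ifs with h <;> [exact h; exact one_mem M]
  have ha'M : a' ∈ M := by unfold a'; split_ifs with h h <;> [exact h; exact h; exact one_mem M]
  have hb'M : b' ∈ M := by unfold b'; split_ifs with h <;> [exact h; exact one_mem M]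
  have hc' : c' ^ 3 = 1 := by unfold c'; split_ifs <;> simp [hc]
  have ha' : a' ^ 2 = 1 := by unfold a'; split_ifs <;> simp [ha, hb, hab.mul_pow]
  have hb' : b' ^ 2 = 1 := by unfold b'; split_ifs <;> simp [hb]
  let ψ := threeHom hc' ha' hb' (hcomm _ hc'M _ ha'M) (hcomm _ hc'M _ hb'M) (hcomm _ ha'M _ hb'M)
  have hψM : ∀ t, ψ t ∈ M := fun t =>
    mul_mem (pow_mem hc'M _) (mul_mem (pow_mem ha'M _) (pow_mem hb'M _))
  have hall : ∀ q ∈ M, q ∈ ψ.range := by
    intro q hq
    obtain ⟨t, rfl⟩ := hM q hq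
    have hgc : c' ∈ ψ.range := ⟨Multiplicative.ofAdd (1, 0, 0), by
      show c' ^ 1 * (a' ^ 0 * b' ^ 0) = c'
      simp⟩
    have hga : a' ∈ ψ.range := ⟨Multiplicative.ofAdd (0, 1, 0), by
      show c' ^ 0 * (a' ^ 1 * b' ^ 0) = a'
      simp⟩
    have hgb : b' ∈ ψ.range := ⟨Multiplicative.ofAdd (0, 0, 1), by
      show c' ^ 0 * (a' ^ 0 * b' ^ 1) = b'
      simp⟩
    set i := t.toAdd.1.val
    set j := t.toAdd.2.1.val
    set k := t.toAdd.2.2.val
    have hi : i < 3 := ZMod.val_lt _
    have hj : j < 2 := ZMod.val_lt _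
    have hk : k < 2 := ZMod.val_lt _
    have hval : φ t = c ^ i * (a ^ j * b ^ k) := rfl
    rw [hval] at hq ⊢
    have hcomm' : Commute (c ^ i) (a ^ j * b ^ k) := (hca.pow_pow _ _).mul_right (hcb.pow_pow _ _)
    have h2 : (a ^ j * b ^ k) ^ 2 = 1 := by
      rw [(hab.pow_pow _ _).mul_pow, ← pow_mul, ← pow_mul, mul_comm j, mul_comm k, pow_mul, pow_mul, ha,
        hb, one_pow, one_pow, one_mul]
    have h3 : (c ^ i) ^ 3 = 1 := by rw [← pow_mul, mul_comm, pow_mul, hc, one_pow]
    have hci : c ^ i ∈ M := by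
      have h := pow_mem hq 4
      rw [hcomm'.mul_pow, pow_succ (c ^ i) 3, h3, one_mul, pow_mul (a ^ j * b ^ k) 2 2, h2, one_pow,
        mul_one] at h
      exact h
    have hab' : a ^ j * b ^ k ∈ M := by
      have h := mul_mem (inv_mem hci) hq
      rwa [inv_mul_cancel_left] at h
    refine mul_mem ?_ ?_
    · interval_cases i
      · rw [pow_zero]; exact one_mem _
      · rw [pow_one] at hci ⊢
        rwa [show c' = c from if_pos hci] at hgc
      · have hcM : c ∈ M := by
          have h := pow_mem hci 2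
          rwa [← pow_mul, show 2 * 2 = 3 + 1 from rfl, pow_succ, hc, one_mul] at h
        rw [show c' = c from if_pos hcM] at hgc
        exact pow_mem hgc 2
    · interval_cases j <;> interval_cases k
      · simp [one_mem]
      · rw [pow_zero, one_mul, pow_one] at hab' ⊢
        rwa [show b' = b from if_pos hab'] at hgb
      · rw [pow_zero, mul_one, pow_one] at hab' ⊢
        rwa [show a' = a from if_pos hab'] at hga
      · rw [pow_one, pow_one] at hab' ⊢
        by_cases haM : a ∈ M
        · have hbM : b ∈ M := by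
            have h := mul_mem (inv_mem haM) hab'
            rwa [inv_mul_cancel_left] at h
          rw [show a' = a from if_pos haM] at hga
          rw [show b' = b from if_pos hbM] at hgb
          exact mul_mem hga hgb
        · rwa [show a' = a * b by simp only [a', if_neg haM, if_pos hab']] at hga
  let e : H ≃* M := H.equivMapOfInjective ι hι
  refine ⟨e.symm.toMonoidHom.comp (ψ.codRestrict M hψM), e.symm.surjective.comp fun q => ?_⟩
  obtain ⟨t, ht⟩ := hall q.1 q.2
  exact ⟨t, Subtype.ext ht⟩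

end Cfsg.Lib.CosetEnum.U62Mult
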