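import Cfsg.Agent.Lib.CosetEnum.U62Mult.Defs
import Cfsg.Agent.Lib.CosetEnum.Fi22U62Pts.Data
import Cfsg.Agent.Lib.CosetEnum.U62Pres.Top.Data
import Cfsg.Agent.Lib.CosetEnum.U62Pres.Hexa.Data
import Cfsg.Agent.Lib.CosetEnum.U62Pres.SubE.Data
import Cfsg.Agent.Lib.CosetEnum.U62Pres.SubDFive.Data
import Cfsg.Agent.Lib.CosetEnum.U62Pres.SubDFour.Data
import Cfsg.Agent.Lib.CosetEnum.U62Pres.SubAThree.Data
import Cfsg.Agent.Lib.CosetEnum.U62Pres.SubATwo.Data
import Cfsg.Agent.Lib.CosetEnum.U62Pres.SubAOne.Data

/-! Kernel checks on the tables and words. -/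

set_option autoImplicit false
set_option maxRecDepth 100000

namespace Cfsg.Lib.CosetEnum.U62Mult

theorem perm_ok : permOK tabP 8 693 rels 693 0 = true := by decide +kernel

theorem rels_letters : (rels.all fun r => r.all fun g => Nat.blt g 8) = true := by decide +kernel

theorem rels_squares : ((List.range 8).all fun g => rels.contains [g, g]) = true := by decide +kernel

theorem shifts_ok : (shiftsOK rels U62Pres.Top.relWords && shiftsOK rels U62Pres.Hexa.relWords &&
    shiftsOK rels U62Pres.SubE.relWords && shiftsOK rels U62Pres.SubDFive.relWords &&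
    shiftsOK rels U62Pres.SubDFour.relWords && shiftsOK rels U62Pres.SubAThree.relWords &&
    shiftsOK rels U62Pres.SubATwo.relWords && shiftsOK rels U62Pres.SubAOne.relWords) = true := by
  decide +kernel

theorem shift_ok : ((List.range 693).all fun i => (List.range 8).all fun g =>
    Nat.beq (img tabP 8 g i) (img Fi22U62Pts.tabP 9 (g + 1) i)) = true := by decide +kernel

theorem base_fix : ((List.range 693).all fun i => Nat.beq (img Fi22U62Pts.tabP 9 0 i) i) = true := by
  decide +kernel

theorem cent_old : (Fi22U62Pts.words1.map fun u => u.map fun g => g - 1) = centWords := by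
  decide +kernel

theorem old_pos : (Fi22U62Pts.words1.all fun u => u.all fun g => Nat.blt 0 g && Nat.blt g 9) = true := by
  decide +kernel

theorem cent_ok : centWords.all centOK = true := by decide +kernel

theorem base_letters : lettersOK baseWord = true := by decide +kernel

theorem base_sq : sameOn (baseWord ++ baseWord) [] = true := by decide +kernel

theorem route_ok : routeOK routes 0 = true := by decide +kernel

theorem pts_ok : (Nat.beq pts.length 8 && (List.range 8).all fun g => Nat.blt (pts.getD g 0) 693 &&
    sameOn (confWord (routes.getD (pts.getD g 0) ([], 0)).1) [g]) = true := by decide +kernel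

theorem braid_ok : (braidTree.all fun p => Nat.blt p.1 8 && Nat.blt p.2 8 &&
    sameOn ((centWords.getD p.1 [] ++ centWords.getD p.2 []) ++
      (centWords.getD p.1 [] ++ centWords.getD p.2 []) ++
      (centWords.getD p.1 [] ++ centWords.getD p.2 [])) []) = true := by decide +kernel

theorem odd_ok : (sameOn (oddWord.flatMap fun i => centWords.getD i []) [] &&
    Nat.beq (oddWord.length % 2) 1 && oddWord.all fun i => Nat.blt i 8) = true := by decide +kernel

theorem words_ok : words.all (fun w => w.all fun g => Nat.blt g 8) = true := by decide +kernel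

end Cfsg.Lib.CosetEnum.U62Mult
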