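import Cfsg.Agent.Lib.CosetEnum.U62Mult.Defs

/-! Kernel checks on the rewriting programs. -/

set_option autoImplicit false
set_option maxRecDepth 100000

namespace Cfsg.Lib.CosetEnum.U62Mult

theorem pairs_run : evenProgsOK tabP 8 pts words pairRels progPairs = true := by decide +kernel

theorem conj_run : runSeq tabP 8 (pts.getD 0 0) words progConj (seqOf pts relConj) [] = true := by
  decide +kernel

theorem cw_run : runSeq tabP 8 (pts.getD 0 0) words progCw (seqOf pts relCw ++ seqOf pts relCw) [] = true := by
  decide +kernel

theorem x_run : runSeq tabP 8 (pts.getD 0 0) words progX (seqOf pts relX ++ seqOf pts relX) [] = true := by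
  decide +kernel

theorem cox_run : runSeq tabP 8 (pts.getD 0 0) words progCox
    (seqOf pts relCox ++ seqOf pts relCox) [] = true := by decide +kernel

theorem hex_run : runSeq tabP 8 (pts.getD 0 0) words progHex
    (seqOf pts relHex ++ seqOf pts relHex ++ seqOf pts relHex) [] = true := by decide +kernel

end Cfsg.Lib.CosetEnum.U62Mult
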