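import Cfsg.Agent.Lib.CosetEnum.U62Mult.Data

/-! Checks on permutations of points and on words. -/

set_option autoImplicit false

namespace Cfsg.Lib.CosetEnum.U62Mult

/-- The relators of the presentation of the unitary group of degree six. -/
def rels : List (List Nat) := pairRels ++ [relConj, relCw, relX, relCox, relHex, []]

/-- The members of the list of relators. -/
theorem mem_rels_iff {r : List Nat} :
    r ∈ rels ↔ r ∈ pairRels ∨ r ∈ [relConj, relCw, relX, relCox, relHex, []] := by
  simp only [rels, List.mem_append]

/-- All letters are generators. -/
def lettersOK (u : List Nat) : Bool := u.all fun g => Nat.blt g 8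

/-- Two words move all points alike, on a range. -/
noncomputable def sameP (u v : List Nat) : Nat → Nat → Bool
  | 0, _ => true
  | m + 1, i => force i fun i =>
      Nat.beq (twalk tabP 8 u i) (twalk tabP 8 v i) && sameP u v m (i + 1)

/-- Two words of generators move all points alike. -/
noncomputable def sameOn (u v : List Nat) : Bool := lettersOK u && lettersOK v && sameP u v 693 0

/-- A generator of the centraliser fixes the base point and commutes with its transvection. -/
noncomputable def centOK (u : List Nat) : Bool :=
  Nat.beq (twalk tabP 8 u 664) 664 && sameOn (u ++ baseWord) (baseWord ++ u) && sameOn (u ++ u) []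

/-- The word of a conjugate of the base transvection. -/
def confWord (w : List Nat) : List Nat := w.reverse ++ baseWord ++ w

/-- A route reaches its point, and away from the base point its transvection is a different one. -/
noncomputable def routeOK : List (List Nat × Nat) → Nat → Bool
  | [], i => Nat.beq i 693
  | e :: l, i => force i fun i =>
      lettersOK e.1 && Nat.beq (twalk tabP 8 e.1 664) i && Nat.blt e.2 693 &&
        (Nat.beq i 664 || !Nat.beq (twalk tabP 8 (confWord e.1) e.2) (twalk tabP 8 baseWord e.2)) &&
        routeOK l (i + 1)

end Cfsg.Lib.CosetEnum.U62Mult
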