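import Cfsg.Agent.Lib.CosetEnum.U62Points
import Cfsg.Agent.Lib.CosetEnum.Fi22U62Pts.Data
import Cfsg.Agent.Lib.CosetEnum.U62Mult.Defs

/-! Checks on transvection products and on the two double covers. -/

set_option autoImplicit false

namespace Cfsg.Lib.CosetEnum.U62Mult

/-- A transvection on codes of vectors. -/
def moveC (c x : Nat) : Nat := GF4.code (GF4.move (GF4.vec c) (GF4.vec x))

/-- The image code of a vector under a word in the transvections. -/
noncomputable def evalC : List Nat → Nat → Nat
  | [], x => x
  | g :: w, x => force (moveC (Fi22U62Pts.centres.getD g 0) x) fun y => evalC w y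

/-- A word has the value of a scalar. -/
noncomputable def scalOK (l : Nat) (w : List Nat) : Bool :=
  lettersOK w && (List.range 6).all fun j => Nat.beq (evalC w (4 ^ j)) (l * 4 ^ j)

/-- A word commutes with the generators and squares to one, on a range of a table. -/
noncomputable def centralT (T : Tab) (u : List Nat) : Nat → Nat → Bool
  | 0, _ => true
  | m + 1, i => force i fun i => force (twalk T 8 u i) fun v =>
      (List.range 8).all (fun g => Nat.beq (twalk T 8 u (img T 8 g i)) (img T 8 g v)) &&
        Nat.beq (twalk T 8 u v) i && centralT T u m (i + 1)

/-- The relators holding in the first double cover. -/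
def relsB : List (List Nat) := pairRels ++ [relConj, relCw, relCox, relHex, []]

/-- The relators holding in the second double cover. -/
def relsC : List (List Nat) := pairRels ++ [relConj, relX, relCox, relHex, []]

end Cfsg.Lib.CosetEnum.U62Mult
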