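import Cfsg.Agent.Lib.CosetEnum.Trans.DefsRewrite
import Cfsg.Agent.Lib.CosetEnum.U62Mult.TabP
import Cfsg.Agent.Lib.CosetEnum.U62Mult.TabB
import Cfsg.Agent.Lib.CosetEnum.U62Mult.TabC

/-! Generated certificate. -/

set_option autoImplicit false
set_option maxRecDepth 20000

namespace Cfsg.Lib.CosetEnum.U62Mult

/-- The relators of the diagram. -/
def pairRels : List (List Nat) :=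
  [[0, 0],
    [1, 1],
    [2, 2],
    [3, 3],
    [4, 4],
    [5, 5],
    [6, 6],
    [7, 7],
    [0, 1, 0, 1, 0, 1],
    [0, 2, 0, 2],
    [0, 3, 0, 3],
    [0, 4, 0, 4],
    [0, 5, 0, 5],
    [0, 6, 0, 6],
    [0, 7, 0, 7],
    [1, 2, 1, 2, 1, 2],
    [1, 3, 1, 3],
    [1, 4, 1, 4],
    [1, 5, 1, 5, 1, 5],
    [1, 6, 1, 6],
    [1, 7, 1, 7],
    [2, 3, 2, 3, 2, 3],
    [2, 4, 2, 4],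
    [2, 5, 2, 5],
    [2, 6, 2, 6],
    [2, 7, 2, 7],
    [3, 4, 3, 4, 3, 4],
    [3, 5, 3, 5],
    [3, 6, 3, 6],
    [3, 7, 3, 7, 3, 7],
    [4, 5, 4, 5],
    [4, 6, 4, 6],
    [4, 7, 4, 7],
    [5, 6, 5, 6, 5, 6],
    [5, 7, 5, 7],
    [6, 7, 6, 7, 6, 7]]

/-- A relator. -/
def relConj : List Nat :=
  [1, 2, 3, 7, 6, 7, 3, 2, 1, 5, 1, 2, 3, 7, 6, 7, 3, 2, 1, 5, 1, 2, 3, 7, 6, 7, 3, 2, 1, 5]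

/-- A relator. -/
def relCw : List Nat :=
  [1, 5, 2, 6, 7, 6, 1, 0, 1, 7, 5, 6, 1, 5, 2, 6, 7, 6, 1, 0, 1, 7, 5, 6, 1, 5, 2, 6, 7, 6, 1, 0, 1, 7, 5, 6]

/-- A relator. -/
def relX : List Nat :=
  [4, 1, 7, 5, 3, 2, 4, 1, 7, 5, 3, 2, 4, 1, 7, 5, 3, 2, 4, 1, 7, 5, 3, 2, 4, 1, 7, 5, 3, 2]

/-- A relator. -/
def relCox : List Nat :=
  [0, 1, 2, 3, 4, 5, 6, 0, 1, 2, 3, 4, 5, 6, 0, 1, 2, 3, 4, 5, 6, 0, 1, 2, 3, 4, 5, 6, 0, 1, 2, 3, 4, 5, 6, 0, 1, 2, 3, 4, 5, 6, 0, 1, 2, 3, 4, 5, 6, 0, 1, 2, 3, 4, 5, 6, 0, 1, 2, 3, 4, 5, 6]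

/-- A relator. -/
def relHex : List Nat :=
  [1, 2, 3, 7, 6, 5, 1, 2, 3, 7, 6, 5, 1, 2, 3, 7, 6, 5, 1, 2, 3, 7, 6, 5, 1, 2, 3, 7, 6, 5]

/-- The points of the generators. -/
def pts : List Nat :=
  [0, 2, 10, 37, 105, 13, 46, 107]

/-- Words leading from the first point to the points moved. -/
def words : List (List Nat) :=
  [[1, 0],
    [],
    [1, 0, 2, 1],
    [1, 0, 5, 1],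
    [1, 0, 2, 1, 3, 2],
    [1, 0, 2, 1, 3, 2, 4, 3],
    [1, 0, 2, 1, 3, 2, 7, 3],
    [1, 0, 5, 1, 6, 5]]

/-- Programs for the relators of the diagram. -/
def progPairs : List (List (Nat × Nat)) :=
  [[(0, 0)],
    [(0, 0)],
    [(0, 0)],
    [(0, 0)],
    [(0, 0)],
    [(0, 0)],
    [(0, 0)],
    [(0, 0)],
    [(2, 1), (1, 2), (0, 0), (1, 0), (0, 0)],
    [(1, 2), (0, 0), (0, 0)],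
    [(1, 2), (0, 0), (0, 0)],
    [(1, 2), (0, 0), (0, 0)],
    [(1, 2), (0, 0), (0, 0)],
    [(1, 2), (0, 0), (0, 0)],
    [(1, 2), (0, 0), (0, 0)],
    [(2, 3), (1, 1), (0, 0), (1, 0), (0, 0)],
    [(1, 1), (0, 0), (0, 0)],
    [(1, 1), (0, 0), (0, 0)],
    [(2, 4), (1, 1), (0, 0), (1, 0), (0, 0)],
    [(1, 1), (0, 0), (0, 0)],
    [(1, 1), (0, 0), (0, 0)],
    [(2, 5), (1, 3), (0, 0), (1, 0), (0, 0)],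
    [(1, 3), (0, 0), (0, 0)],
    [(1, 3), (0, 0), (0, 0)],
    [(1, 3), (0, 0), (0, 0)],
    [(1, 3), (0, 0), (0, 0)],
    [(2, 6), (1, 5), (0, 0), (1, 0), (0, 0)],
    [(1, 5), (0, 0), (0, 0)],
    [(1, 5), (0, 0), (0, 0)],
    [(2, 7), (1, 5), (0, 0), (1, 0), (0, 0)],
    [(1, 6), (0, 0), (0, 0)],
    [(1, 6), (0, 0), (0, 0)],
    [(1, 6), (0, 0), (0, 0)],
    [(2, 8), (1, 4), (0, 0), (1, 0), (0, 0)],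
    [(1, 4), (0, 0), (0, 0)],
    [(2, 7), (1, 8), (0, 0), (1, 0), (0, 0)]]

/-- A program. -/
def progConj : List (Nat × Nat) :=
  [(14, 7), (13, 5), (12, 3), (11, 1), (10, 4), (9, 1), (8, 3), (7, 5), (6, 7), (5, 8), (4, 7), (3, 5),
   (2, 3), (1, 1), (0, 0), (13, 0), (12, 0), (11, 0), (10, 0), (9, 0), (8, 0), (7, 0), (6, 0), (5, 0),
   (4, 0), (3, 0), (2, 0), (1, 0), (0, 0)]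

/-- A program. -/
def progCw : List (Nat × Nat) :=
  [(7, 7), (6, 8), (5, 1), (4, 2), (3, 1), (2, 0), (17, 7), (16, 8), (15, 1), (14, 2), (13, 1), (12, 0),
   (27, 7), (26, 8), (25, 1), (24, 2), (23, 1), (22, 0), (37, 7), (36, 8), (35, 1), (34, 2), (33, 1), (32, 0),
   (47, 7), (46, 8), (45, 1), (44, 2), (43, 1), (42, 0), (57, 7), (56, 8), (55, 1), (54, 2), (53, 1), (52, 0),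
   (29, 1), (28, 4), (27, 3), (26, 7), (25, 8), (24, 1), (23, 2), (22, 1), (21, 4), (20, 8), (19, 1), (18, 4),
   (17, 3), (16, 7), (15, 8), (14, 1), (13, 2), (12, 1), (11, 4), (10, 8), (9, 1), (8, 4), (7, 3), (6, 7),
   (5, 8), (4, 1), (3, 2), (2, 1), (1, 4), (0, 0), (29, 4), (28, 1), (27, 0), (37, 4), (36, 8), (35, 1),
   (34, 4), (33, 3), (32, 7), (31, 8), (30, 1), (29, 2), (28, 4), (27, 1), (26, 3), (25, 0), (38, 1), (37, 2),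
   (36, 4), (35, 8), (34, 1), (33, 4), (32, 3), (31, 7), (30, 8), (29, 1), (28, 2), (27, 4), (26, 1), (25, 3),
   (24, 8), (23, 0), (27, 2), (26, 4), (25, 1), (24, 3), (23, 8), (22, 2), (21, 1), (20, 4), (19, 8), (18, 1),
   (17, 4), (16, 3), (15, 7), (14, 8), (13, 0), (29, 3), (28, 7), (27, 8), (26, 2), (25, 4), (24, 1), (23, 3),
   (22, 0), (33, 1), (32, 2), (31, 4), (30, 8), (29, 1), (28, 3), (27, 7), (26, 0), (15, 3), (14, 7), (13, 8),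
   (12, 2), (11, 1), (10, 4), (9, 8), (8, 1), (7, 0), (31, 3), (30, 1), (29, 2), (28, 4), (27, 8), (26, 1),
   (25, 3), (24, 7), (23, 0), (22, 4), (21, 1), (20, 3), (19, 2), (18, 1), (17, 4), (16, 8), (15, 1), (14, 3),
   (13, 7), (12, 0), (11, 2), (10, 1), (9, 4), (8, 8), (7, 1), (6, 3), (5, 7), (4, 0), (20, 3), (19, 4),
   (18, 1), (17, 3), (16, 2), (15, 1), (14, 4), (13, 8), (12, 1), (11, 3), (10, 0), (24, 3), (23, 1), (22, 2),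
   (21, 4), (20, 8), (19, 0), (23, 3), (22, 1), (21, 2), (20, 4), (19, 8), (18, 0), (10, 3), (9, 1), (8, 4),
   (7, 8), (6, 1), (5, 3), (4, 7), (3, 0), (13, 2), (12, 1), (11, 4), (10, 8), (9, 3), (8, 1), (7, 4),
   (6, 0), (15, 4), (14, 8), (13, 1), (12, 2), (11, 0), (16, 3), (15, 1), (14, 4), (13, 8), (12, 0), (12, 8),
   (11, 2), (10, 4), (9, 0), (8, 3), (7, 1), (6, 4), (5, 0), (11, 3), (10, 1), (9, 8), (8, 2), (7, 0),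
   (10, 3), (9, 1), (8, 8), (7, 2), (6, 0), (5, 4), (4, 3), (3, 7), (2, 0), (8, 1), (7, 3), (6, 1),
   (5, 0), (6, 3), (5, 1), (4, 4), (3, 0), (6, 7), (5, 0), (4, 1), (3, 4), (2, 0), (2, 4), (1, 1),
   (0, 0), (1, 0), (0, 0)]

/-- A program. -/
def progX : List (Nat × Nat) :=
  [(29, 6), (28, 1), (27, 7), (26, 4), (25, 5), (24, 3), (23, 6), (22, 1), (21, 7), (20, 4), (19, 5), (18, 3),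
   (17, 6), (16, 1), (15, 7), (14, 4), (13, 5), (12, 3), (11, 6), (10, 1), (9, 7), (8, 4), (7, 5), (6, 3),
   (5, 6), (4, 1), (3, 7), (2, 4), (1, 5), (0, 0), (31, 7), (30, 4), (29, 5), (28, 6), (27, 1), (26, 7),
   (25, 0), (33, 5), (32, 3), (31, 6), (30, 7), (29, 0), (28, 5), (27, 6), (26, 1), (25, 7), (24, 5), (23, 3),
   (22, 0), (27, 5), (26, 6), (25, 1), (24, 7), (23, 5), (22, 3), (21, 1), (20, 0), (21, 3), (20, 1), (19, 4),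
   (18, 5), (17, 3), (16, 6), (15, 1), (14, 7), (13, 0), (25, 3), (24, 5), (23, 6), (22, 1), (21, 7), (20, 3),
   (19, 0), (27, 6), (26, 1), (25, 7), (24, 3), (23, 5), (22, 6), (21, 0), (33, 5), (32, 3), (31, 6), (30, 1),
   (29, 7), (28, 4), (27, 5), (26, 6), (25, 0), (26, 5), (25, 6), (24, 7), (23, 3), (22, 5), (21, 6), (20, 7),
   (19, 3), (18, 0), (21, 5), (20, 6), (19, 7), (18, 3), (17, 5), (16, 3), (15, 6), (14, 1), (13, 7), (12, 5),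
   (11, 3), (10, 6), (9, 0), (23, 5), (22, 6), (21, 7), (20, 5), (19, 0), (19, 5), (18, 7), (17, 3), (16, 5),
   (15, 0), (21, 1), (20, 5), (19, 6), (18, 0), (16, 3), (15, 5), (14, 6), (13, 1), (12, 7), (11, 5), (10, 3),
   (9, 0), (10, 5), (9, 3), (8, 7), (7, 4), (6, 5), (5, 0), (13, 3), (12, 5), (11, 6), (10, 1), (9, 0),
   (14, 1), (13, 5), (12, 3), (11, 5), (10, 6), (9, 1), (8, 0), (13, 1), (12, 0), (13, 7), (12, 0), (13, 6),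
   (12, 7), (11, 0), (14, 4), (13, 5), (12, 6), (11, 7), (10, 5), (9, 0), (9, 5), (8, 1), (7, 7), (6, 4),
   (5, 0), (5, 4), (4, 6), (3, 1), (2, 0), (4, 4), (3, 6), (2, 1), (1, 0), (5, 6), (4, 5), (3, 4),
   (2, 0), (2, 4), (1, 1), (0, 0), (2, 6), (1, 0), (1, 6), (0, 0), (0, 0)]

/-- A program. -/
def progCox : List (Nat × Nat) :=
  [(62, 2), (61, 1), (60, 3), (59, 5), (58, 6), (57, 4), (56, 8), (55, 2), (54, 1), (53, 3), (52, 5), (51, 6),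
   (50, 4), (49, 8), (48, 2), (47, 1), (46, 3), (45, 5), (44, 6), (43, 4), (42, 8), (41, 2), (40, 1), (39, 3),
   (38, 5), (37, 6), (36, 4), (35, 8), (34, 2), (33, 1), (32, 3), (31, 5), (30, 6), (29, 4), (28, 8), (27, 2),
   (26, 1), (25, 3), (24, 5), (23, 6), (22, 4), (21, 8), (20, 2), (19, 1), (18, 3), (17, 5), (16, 6), (15, 4),
   (14, 8), (13, 2), (12, 1), (11, 3), (10, 5), (9, 6), (8, 4), (7, 8), (6, 2), (5, 1), (4, 3), (3, 5),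
   (2, 6), (1, 4), (0, 0), (83, 4), (82, 8), (81, 2), (80, 1), (79, 3), (78, 5), (77, 6), (76, 4), (75, 8),
   (74, 2), (73, 1), (72, 3), (71, 5), (70, 6), (69, 4), (68, 8), (67, 2), (66, 1), (65, 3), (64, 5), (63, 6),
   (62, 4), (61, 2), (60, 1), (59, 3), (58, 5), (57, 6), (56, 4), (55, 8), (54, 2), (53, 1), (52, 3), (51, 5),
   (50, 0), (65, 1), (64, 3), (63, 5), (62, 6), (61, 4), (60, 2), (59, 1), (58, 3), (57, 5), (56, 6), (55, 4),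
   (54, 8), (53, 2), (52, 1), (51, 3), (50, 5), (49, 4), (48, 8), (47, 2), (46, 1), (45, 3), (44, 5), (43, 6),
   (42, 4), (41, 8), (40, 2), (39, 1), (38, 3), (37, 5), (36, 6), (35, 4), (34, 8), (33, 2), (32, 1), (31, 3),
   (30, 5), (29, 0), (78, 2), (77, 1), (76, 3), (75, 5), (74, 6), (73, 4), (72, 8), (71, 2), (70, 1), (69, 3),
   (68, 5), (67, 6), (66, 4), (65, 8), (64, 1), (63, 3), (62, 5), (61, 0), (76, 1), (75, 3), (74, 5), (73, 6),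
   (72, 4), (71, 8), (70, 2), (69, 1), (68, 3), (67, 5), (66, 6), (65, 4), (64, 8), (63, 1), (62, 3), (61, 5),
   (60, 4), (59, 2), (58, 1), (57, 3), (56, 5), (55, 6), (54, 4), (53, 8), (52, 2), (51, 1), (50, 3), (49, 5),
   (48, 4), (47, 0), (87, 2), (86, 1), (85, 3), (84, 5), (83, 6), (82, 4), (81, 8), (80, 2), (79, 1), (78, 3),
   (77, 5), (76, 4), (75, 1), (74, 3), (73, 0), (50, 1), (49, 3), (48, 5), (47, 4), (46, 2), (45, 1), (44, 3),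
   (43, 5), (42, 6), (41, 4), (40, 8), (39, 2), (38, 1), (37, 3), (36, 5), (35, 6), (34, 4), (33, 8), (32, 2),
   (31, 1), (30, 3), (29, 5), (28, 4), (27, 0), (57, 4), (56, 2), (55, 1), (54, 3), (53, 5), (52, 6), (51, 4),
   (50, 8), (49, 1), (48, 3), (47, 5), (46, 4), (45, 2), (44, 1), (43, 3), (42, 5), (41, 6), (40, 4), (39, 8),
   (38, 2), (37, 1), (36, 3), (35, 5), (34, 0), (90, 4), (89, 8), (88, 2), (87, 1), (86, 3), (85, 5), (84, 6),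
   (83, 4), (82, 2), (81, 1), (80, 3), (79, 5), (78, 6), (77, 4), (76, 8), (75, 2), (74, 1), (73, 3), (72, 5),
   (71, 4), (70, 1), (69, 3), (68, 6), (67, 0), (68, 3), (67, 6), (66, 8), (65, 2), (64, 1), (63, 3), (62, 5),
   (61, 6), (60, 4), (59, 8), (58, 1), (57, 3), (56, 4), (55, 2), (54, 1), (53, 3), (52, 5), (51, 6), (50, 4),
   (49, 8), (48, 1), (47, 3), (46, 5), (45, 0), (80, 4), (79, 2), (78, 1), (77, 3), (76, 5), (75, 6), (74, 4),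
   (73, 8), (72, 2), (71, 1), (70, 3), (69, 5), (68, 4), (67, 0), (46, 3), (45, 5), (44, 2), (43, 1), (42, 3),
   (41, 5), (40, 6), (39, 4), (38, 8), (37, 2), (36, 1), (35, 3), (34, 5), (33, 4), (32, 8), (31, 2), (30, 1),
   (29, 3), (28, 5), (27, 4), (26, 2), (25, 1), (24, 3), (23, 0), (25, 2), (24, 1), (23, 3), (22, 6), (21, 4),
   (20, 8), (19, 2), (18, 1), (17, 3), (16, 5), (15, 6), (14, 4), (13, 8), (12, 2), (11, 1), (10, 3), (9, 5),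
   (8, 6), (7, 4), (6, 0), (31, 5), (30, 4), (29, 8), (28, 2), (27, 1), (26, 3), (25, 5), (24, 2), (23, 1),
   (22, 3), (21, 6), (20, 4), (19, 8), (18, 2), (17, 1), (16, 3), (15, 5), (14, 6), (13, 4), (12, 0), (45, 5),
   (44, 6), (43, 4), (42, 8), (41, 3), (40, 5), (39, 2), (38, 1), (37, 3), (36, 5), (35, 6), (34, 4), (33, 8),
   (32, 2), (31, 1), (30, 0), (40, 3), (39, 5), (38, 2), (37, 1), (36, 3), (35, 5), (34, 6), (33, 4), (32, 8),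
   (31, 2), (30, 1), (29, 4), (28, 8), (27, 2), (26, 1), (25, 3), (24, 5), (23, 0), (20, 6), (19, 4), (18, 8),
   (17, 2), (16, 1), (15, 3), (14, 5), (13, 6), (12, 4), (11, 2), (10, 1), (9, 3), (8, 5), (7, 6), (6, 4),
   (5, 2), (4, 1), (3, 3), (2, 5), (1, 0), (59, 2), (58, 1), (57, 3), (56, 5), (55, 4), (54, 6), (53, 8),
   (52, 2), (51, 1), (50, 3), (49, 5), (48, 6), (47, 4), (46, 8), (45, 1), (44, 3), (43, 4), (42, 2), (41, 1),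
   (40, 5), (39, 0), (27, 1), (26, 4), (25, 8), (24, 2), (23, 1), (22, 3), (21, 5), (20, 1), (19, 6), (18, 4),
   (17, 8), (16, 2), (15, 1), (14, 3), (13, 5), (12, 6), (11, 4), (10, 2), (9, 1), (8, 3), (7, 5), (6, 0),
   (36, 4), (35, 3), (34, 5), (33, 2), (32, 1), (31, 3), (30, 5), (29, 6), (28, 4), (27, 8), (26, 1), (25, 4),
   (24, 0), (36, 1), (35, 4), (34, 3), (33, 5), (32, 2), (31, 1), (30, 3), (29, 5), (28, 6), (27, 4), (26, 8),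
   (25, 1), (24, 4), (23, 2), (22, 1), (21, 3), (20, 5), (19, 0), (23, 4), (22, 2), (21, 1), (20, 3), (19, 5),
   (18, 6), (17, 4), (16, 8), (15, 2), (14, 1), (13, 3), (12, 5), (11, 0), (43, 2), (42, 1), (41, 3), (40, 5),
   (39, 6), (38, 4), (37, 8), (36, 1), (35, 3), (34, 4), (33, 1), (32, 4), (31, 0), (32, 1), (31, 4), (30, 5),
   (29, 2), (28, 1), (27, 3), (26, 5), (25, 6), (24, 4), (23, 8), (22, 4), (21, 0), (33, 1), (32, 3), (31, 1),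
   (30, 4), (29, 5), (28, 2), (27, 1), (26, 3), (25, 5), (24, 6), (23, 4), (22, 8), (21, 4), (20, 1), (19, 3),
   (18, 5), (17, 0), (43, 1), (42, 3), (41, 5), (40, 4), (39, 6), (38, 2), (37, 1), (36, 3), (35, 5), (34, 6),
   (33, 4), (32, 1), (31, 3), (30, 1), (29, 4), (28, 0), (48, 2), (47, 1), (46, 3), (45, 5), (44, 6), (43, 4),
   (42, 1), (41, 3), (40, 5), (39, 4), (38, 0), (50, 1), (49, 3), (48, 5), (47, 2), (46, 1), (45, 3), (44, 0),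
   (38, 4), (37, 2), (36, 1), (35, 3), (34, 5), (33, 6), (32, 4), (31, 1), (30, 3), (29, 0), (37, 4), (36, 2),
   (35, 1), (34, 3), (33, 5), (32, 6), (31, 4), (30, 1), (29, 3), (28, 0), (47, 4), (46, 8), (45, 1), (44, 3),
   (43, 5), (42, 2), (41, 1), (40, 3), (39, 6), (38, 4), (37, 1), (36, 0), (35, 2), (34, 1), (33, 3), (32, 5),
   (31, 6), (30, 4), (29, 1), (28, 3), (27, 2), (26, 1), (25, 0), (24, 5), (23, 6), (22, 4), (21, 8), (20, 4),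
   (19, 1), (18, 3), (17, 5), (16, 4), (15, 0), (32, 2), (31, 1), (30, 3), (29, 5), (28, 6), (27, 4), (26, 1),
   (25, 3), (24, 2), (23, 5), (22, 0), (34, 1), (33, 3), (32, 6), (31, 2), (30, 1), (29, 0), (38, 4), (37, 8),
   (36, 1), (35, 3), (34, 5), (33, 0), (33, 5), (32, 3), (31, 6), (30, 2), (29, 1), (28, 5), (27, 0), (27, 5),
   (26, 4), (25, 1), (24, 3), (23, 2), (22, 5), (21, 0), (38, 6), (37, 4), (36, 8), (35, 2), (34, 1), (33, 4),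
   (32, 8), (31, 1), (30, 5), (29, 3), (28, 0), (42, 4), (41, 8), (40, 2), (39, 1), (38, 3), (37, 0), (39, 2),
   (38, 1), (37, 3), (36, 4), (35, 8), (34, 2), (33, 1), (32, 4), (31, 8), (30, 0), (33, 2), (32, 1), (31, 4),
   (30, 8), (29, 5), (28, 3), (27, 2), (26, 5), (25, 0), (28, 5), (27, 3), (26, 2), (25, 5), (24, 1), (23, 3),
   (22, 2), (21, 5), (20, 0), (26, 3), (25, 2), (24, 5), (23, 1), (22, 3), (21, 2), (20, 5), (19, 4), (18, 1),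
   (17, 3), (16, 5), (15, 4), (14, 2), (13, 1), (12, 3), (11, 0), (31, 1), (30, 3), (29, 4), (28, 2), (27, 1),
   (26, 4), (25, 3), (24, 2), (23, 5), (22, 1), (21, 3), (20, 0), (24, 3), (23, 2), (22, 5), (21, 1), (20, 3),
   (19, 5), (18, 4), (17, 1), (16, 3), (15, 0), (24, 1), (23, 3), (22, 2), (21, 5), (20, 1), (19, 3), (18, 0),
   (26, 1), (25, 3), (24, 4), (23, 1), (22, 0), (27, 3), (26, 5), (25, 1), (24, 3), (23, 4), (22, 1), (21, 2),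
   (20, 0), (18, 3), (17, 4), (16, 1), (15, 3), (14, 4), (13, 2), (12, 1), (11, 3), (10, 4), (9, 0), (12, 2),
   (11, 1), (10, 3), (9, 4), (8, 1), (7, 0), (11, 2), (10, 1), (9, 3), (8, 4), (7, 1), (6, 5), (5, 0),
   (13, 3), (12, 4), (11, 1), (10, 2), (9, 0), (8, 3), (7, 4), (6, 1), (5, 5), (4, 2), (3, 0), (11, 1),
   (10, 3), (9, 4), (8, 1), (7, 0), (7, 1), (6, 4), (5, 0), (8, 1), (7, 3), (6, 0), (7, 0), (7, 5),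
   (6, 3), (5, 4), (4, 0), (4, 4), (3, 2), (2, 0), (2, 2), (1, 5), (0, 0), (1, 2), (0, 0), (0, 0)]

/-- A program. -/
def progHex : List (Nat × Nat) :=
  [(14, 7), (13, 8), (12, 4), (11, 1), (10, 3), (9, 5), (8, 7), (7, 8), (6, 4), (5, 1), (4, 3), (3, 5),
   (2, 7), (1, 8), (0, 0), (17, 8), (16, 4), (15, 1), (14, 3), (13, 7), (12, 8), (11, 4), (10, 1), (9, 0),
   (31, 1), (30, 3), (29, 5), (28, 7), (27, 8), (26, 4), (25, 1), (24, 3), (23, 5), (22, 7), (21, 8), (20, 4),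
   (19, 1), (18, 3), (17, 0), (19, 4), (18, 1), (17, 3), (16, 8), (15, 4), (14, 1), (13, 0), (32, 3), (31, 5),
   (30, 7), (29, 8), (28, 1), (27, 3), (26, 5), (25, 7), (24, 0), (18, 4), (17, 1), (16, 3), (15, 8), (14, 4),
   (13, 1), (12, 7), (11, 8), (10, 4), (9, 0), (44, 7), (43, 8), (42, 4), (41, 1), (40, 3), (39, 5), (38, 7),
   (37, 8), (36, 4), (35, 1), (34, 3), (33, 5), (32, 7), (31, 8), (30, 0), (32, 5), (31, 7), (30, 8), (29, 3),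
   (28, 5), (27, 7), (26, 0), (45, 8), (44, 4), (43, 1), (42, 3), (41, 7), (40, 8), (39, 4), (38, 1), (37, 0),
   (31, 5), (30, 7), (29, 8), (28, 3), (27, 5), (26, 7), (25, 1), (24, 3), (23, 5), (22, 0), (23, 3), (22, 5),
   (21, 4), (20, 1), (19, 3), (18, 5), (17, 4), (16, 1), (15, 0), (16, 4), (15, 1), (14, 8), (13, 4), (12, 1),
   (11, 7), (10, 8), (9, 4), (8, 5), (7, 7), (6, 8), (5, 0), (29, 7), (28, 8), (27, 4), (26, 5), (25, 7),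
   (24, 8), (23, 3), (22, 5), (21, 7), (20, 3), (19, 5), (18, 0), (51, 1), (50, 3), (49, 5), (48, 7), (47, 8),
   (46, 4), (45, 1), (44, 3), (43, 5), (42, 7), (41, 8), (40, 4), (39, 1), (38, 3), (37, 0), (39, 4), (38, 1),
   (37, 3), (36, 8), (35, 4), (34, 1), (33, 0), (34, 4), (33, 1), (32, 7), (31, 8), (30, 4), (29, 1), (28, 7),
   (27, 8), (26, 0), (36, 4), (35, 1), (34, 3), (33, 4), (32, 1), (31, 0), (26, 8), (25, 5), (24, 7), (23, 8),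
   (22, 3), (21, 5), (20, 7), (19, 3), (18, 0), (46, 3), (45, 5), (44, 7), (43, 8), (42, 1), (41, 3), (40, 5),
   (39, 7), (38, 0), (36, 1), (35, 3), (34, 5), (33, 4), (32, 1), (31, 3), (30, 4), (29, 1), (28, 8), (27, 4),
   (26, 1), (25, 8), (24, 0), (21, 3), (20, 5), (19, 7), (18, 3), (17, 1), (16, 3), (15, 4), (14, 1), (13, 8),
   (12, 4), (11, 1), (10, 7), (9, 8), (8, 0), (9, 7), (8, 8), (7, 5), (6, 7), (5, 8), (4, 0), (27, 1),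
   (26, 3), (25, 4), (24, 1), (23, 8), (22, 4), (21, 1), (20, 8), (19, 7), (18, 3), (17, 5), (16, 7), (15, 3),
   (14, 1), (13, 0), (23, 1), (22, 8), (21, 4), (20, 1), (19, 8), (18, 7), (17, 3), (16, 5), (15, 7), (14, 3),
   (13, 1), (12, 4), (11, 0), (27, 1), (26, 3), (25, 5), (24, 1), (23, 3), (22, 1), (21, 8), (20, 4), (19, 1),
   (18, 8), (17, 7), (16, 3), (15, 5), (14, 7), (13, 3), (12, 1), (11, 4), (10, 0), (9, 0), (10, 3), (9, 1),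
   (8, 0), (10, 5), (9, 3), (8, 1), (7, 8), (6, 0), (22, 3), (21, 5), (20, 1), (19, 3), (18, 0), (17, 1),
   (16, 3), (15, 0), (16, 0), (17, 3), (16, 5), (15, 3), (14, 0), (19, 3), (18, 5), (17, 7), (16, 3), (15, 5),
   (14, 3), (13, 0), (11, 8), (10, 7), (9, 5), (8, 3), (7, 1), (6, 8), (5, 7), (4, 8), (3, 0), (12, 5),
   (11, 3), (10, 8), (9, 7), (8, 5), (7, 3), (6, 1), (5, 8), (4, 7), (3, 0), (15, 8), (14, 3), (13, 5),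
   (12, 7), (11, 5), (10, 3), (9, 8), (8, 0), (7, 5), (6, 3), (5, 1), (4, 0), (7, 3), (6, 5), (5, 0),
   (4, 1), (3, 7), (2, 5), (1, 0), (4, 3), (3, 1), (2, 0), (4, 5), (3, 3), (2, 1), (1, 0), (4, 8),
   (3, 0), (3, 8), (2, 0), (1, 1), (0, 0), (0, 0)]

/-- A word for the transvection at the base point. -/
def baseWord : List Nat :=
  [6, 5, 1, 2, 0, 1, 5, 6, 3, 2, 1, 5, 4, 3, 2, 1, 0, 1, 2, 3, 4, 5, 1, 2, 3, 6, 5, 1, 0, 2, 1, 5, 6]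

/-- Generators of the centraliser of the transvection at the base point. -/
def centWords : List (List Nat) :=
  [[0],
    [1],
    [2],
    [3],
    [4],
    [5],
    [7],
    [7, 6, 5, 1, 2, 3, 7, 6, 5, 4, 3, 2, 1, 0, 1, 2, 3, 4, 5, 6, 7, 3, 2, 1, 5, 6, 7]]

/-- An odd word in the generators of the centraliser. -/
def oddWord : List Nat :=
  [7, 0, 1, 3, 2, 7, 0, 1, 3, 2, 7, 0, 1, 3, 2, 7, 0, 1, 3, 2, 7, 0, 1, 3, 2]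

/-- Pairs of generators with product of order three. -/
def braidTree : List (Nat × Nat) :=
  [(1, 0), (7, 0), (2, 1), (5, 1), (3, 7), (4, 7), (6, 7)]

/-- Words from the base point and witnesses. -/
def route0 : List (List Nat × Nat) :=
  [([6, 5, 1, 0, 2, 1, 3, 2, 4, 3, 5, 1, 2, 6, 5, 1], 1),
    ([6, 5, 1, 0, 2, 1, 3, 2, 4, 3, 5, 1, 2, 6, 5], 0),
    ([6, 5, 1, 0, 2, 1, 3, 2, 4, 3, 5, 1, 0, 2, 6, 5], 0),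
    ([6, 5, 1, 0, 2, 1, 3, 2, 4, 3, 5, 1, 6, 5], 0),
    ([6, 5, 1, 0, 2, 1, 3, 2, 4, 3, 5, 1, 2, 6], 0),
    ([6, 5, 1, 0, 2, 1, 3, 2, 4, 3, 5, 1, 0, 6, 5], 0),
    ([6, 5, 1, 0, 2, 1, 3, 2, 4, 3, 5, 1, 0, 2, 6], 0),
    ([6, 5, 1, 0, 2, 1, 3, 2, 4, 5, 1, 6, 5], 0),
    ([6, 5, 1, 0, 2, 1, 3, 2, 4, 3, 5, 1, 6], 0),
    ([6, 5, 1, 0, 2, 1, 3, 2, 4, 3, 5, 1, 2], 0),
    ([6, 5, 1, 0, 2, 1, 3, 2, 4, 3, 5, 1, 0, 6, 5, 1], 1),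
    ([6, 5, 1, 0, 2, 1, 3, 2, 4, 5, 1, 0, 6, 5], 0),
    ([6, 5, 1, 0, 2, 1, 3, 2, 4, 3, 5, 1, 0, 6], 0),
    ([6, 5, 1, 0, 2, 1, 3, 2, 4, 3, 5, 1, 0, 2, 1, 6], 1),
    ([6, 5, 1, 0, 2, 1, 3, 2, 4, 3, 5, 1, 0, 2], 0),
    ([6, 5, 1, 0, 2, 1, 3, 2, 5, 1, 6, 5], 0),
    ([6, 5, 1, 0, 2, 1, 3, 2, 4, 5, 1, 6], 0),
    ([6, 5, 1, 2, 3, 4, 7, 3, 2, 1, 5, 6], 0),
    ([6, 5, 1, 0, 2, 1, 3, 2, 4, 3, 5, 6], 1),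
    ([6, 5, 1, 0, 2, 1, 3, 2, 4, 3, 5, 1], 0),
    ([6, 5, 1, 2, 3, 4, 7, 6, 5, 1, 2, 3], 0),
    ([6, 5, 1, 0, 2, 1, 3, 2, 4, 5, 1, 0, 6, 5, 1], 1),
    ([6, 5, 1, 0, 2, 1, 3, 2, 5, 1, 0, 6, 5], 0),
    ([6, 5, 1, 0, 2, 1, 3, 2, 4, 5, 1, 0, 6], 0),
    ([6, 5, 1, 2, 3, 4, 7, 3, 2, 1, 0, 5, 6], 0),
    ([6, 5, 1, 0, 2, 1, 3, 2, 4, 3, 5, 1, 0], 0),
    ([6, 5, 1, 0, 2, 1, 3, 2, 4, 3, 5, 1, 0, 2, 1], 1),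
    ([6, 5, 1, 2, 3, 4, 7, 6, 5, 1, 0, 2, 3], 0),
    ([6, 5, 1, 0, 2, 1, 3, 2, 5, 1, 6], 0),
    ([6, 7, 3, 2, 1, 4, 3, 2, 7, 3, 6], 0),
    ([6, 5, 1, 0, 2, 1, 3, 2, 4, 5, 6], 1),
    ([6, 5, 1, 0, 2, 1, 3, 2, 4, 5, 1], 0),
    ([6, 5, 1, 0, 2, 1, 3, 2, 4, 5, 1, 6, 7], 0),
    ([6, 5, 1, 2, 3, 4, 7, 3, 2, 1, 5], 0),
    ([6, 5, 1, 0, 2, 1, 3, 2, 4, 3, 5], 1),
    ([6, 5, 1, 0, 2, 1, 3, 2, 4, 3, 5, 1, 7], 0),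
    ([6, 5, 1, 2, 3, 4, 7, 6, 5, 1, 2], 0),
    ([6, 5, 1, 0, 2, 1, 3, 2, 4, 5, 1, 0, 6, 5, 1, 2], 3),
    ([6, 5, 1, 0, 2, 1, 3, 2, 5, 1, 0, 6, 5, 1], 1),
    ([6, 5, 1, 2, 3, 4, 7, 3, 2, 1, 0, 5, 1, 6], 1),
    ([6, 5, 1, 0, 2, 1, 3, 2, 5, 1, 0, 6], 0),
    ([6, 7, 3, 2, 1, 0, 4, 3, 2, 7, 3, 6], 0),
    ([6, 5, 1, 0, 2, 1, 3, 2, 4, 5, 1, 0], 0),
    ([6, 5, 1, 0, 2, 1, 3, 2, 4, 5, 1, 0, 6, 7], 0),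
    ([6, 5, 1, 2, 3, 4, 7, 3, 2, 1, 0, 5], 0),
    ([6, 5, 1, 0, 2, 1, 3, 2, 4, 3, 5, 1, 0, 7], 0),
    ([6, 5, 1, 0, 2, 1, 3, 2, 4, 3, 5, 1, 0, 2, 1, 5], 4),
    ([6, 5, 1, 2, 3, 4, 7, 6, 5, 1, 0, 2, 1, 3], 1),
    ([6, 5, 1, 2, 3, 4, 7, 6, 5, 1, 0, 2], 0),
    ([6, 5, 1, 0, 2, 1, 3, 2, 5, 6], 1),
    ([6, 5, 1, 0, 2, 1, 3, 2, 5, 1], 0),
    ([6, 5, 1, 0, 2, 1, 3, 2, 5, 1, 6, 7], 0),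
    ([6, 7, 3, 2, 1, 4, 3, 2, 7, 6], 0),
    ([6, 7, 3, 2, 1, 4, 3, 2, 7, 3], 0),
    ([6, 5, 1, 0, 2, 1, 3, 4, 5, 6], 3),
    ([6, 5, 1, 0, 2, 1, 3, 2, 4, 5], 1),
    ([6, 5, 1, 0, 2, 1, 3, 2, 4, 5, 6, 7], 1),
    ([6, 5, 1, 0, 2, 1, 3, 2, 4, 5, 1, 7], 0),
    ([6, 5, 1, 2, 3, 4, 7, 3, 2, 1, 6, 5], 0),
    ([6, 5, 1, 2, 3, 4, 7, 3, 2, 1], 0),
    ([6, 5, 1, 0, 2, 1, 3, 2, 4, 3], 4),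
    ([6, 5, 1, 0, 2, 1, 3, 2, 4, 3, 5, 7], 1),
    ([6, 5, 1, 2, 3, 4, 7, 3, 6, 5, 1, 2], 0),
    ([6, 5, 1, 2, 3, 4, 7, 6, 5, 1], 0)]

/-- Words from the base point and witnesses. -/
def route1 : List (List Nat × Nat) :=
  [([6, 5, 1, 2, 3, 7, 6, 5, 1, 2], 0),
    ([6, 5, 1, 0, 2, 1, 3, 2, 5, 1, 0, 6, 5, 1, 2], 3),
    ([6, 5, 1, 2, 3, 4, 7, 3, 2, 1, 0, 5, 1, 2, 6], 3),
    ([6, 7, 3, 2, 1, 0, 4, 3, 2, 1, 7, 3, 6], 1),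
    ([6, 5, 1, 2, 3, 4, 7, 3, 2, 1, 0, 5, 1], 1),
    ([6, 5, 1, 0, 2, 1, 3, 2, 5, 1, 0], 0),
    ([6, 5, 1, 0, 2, 1, 3, 2, 5, 1, 0, 6, 7], 0),
    ([6, 7, 3, 2, 1, 0, 4, 3, 2, 7, 6], 0),
    ([6, 7, 3, 2, 1, 0, 4, 3, 2, 7, 3], 0),
    ([6, 7, 3, 2, 1, 0, 5, 1, 2, 3, 4], 0),
    ([6, 5, 1, 2, 3, 4, 7, 3, 2, 1, 0, 6, 5], 0),
    ([6, 5, 1, 2, 3, 4, 7, 3, 2, 1, 0], 0),
    ([6, 5, 1, 2, 3, 4, 7, 3, 6, 5, 1, 0, 2], 0),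
    ([6, 5, 1, 2, 3, 4, 7, 3, 2, 1, 0, 5, 1, 2, 3], 4),
    ([6, 5, 1, 2, 3, 4, 7, 6, 5, 1, 0, 2, 1], 1),
    ([6, 5, 1, 2, 3, 4, 7, 6, 5, 1, 0], 0),
    ([6, 5, 1, 2, 3, 7, 6, 5, 1, 0, 2], 0),
    ([6, 5, 1, 0, 2, 1, 3, 5, 6], 3),
    ([6, 5, 1, 0, 2, 1, 3, 2, 5], 1),
    ([6, 5, 1, 0, 2, 1, 3, 2, 5, 6, 7], 1),
    ([6, 5, 1, 0, 2, 1, 3, 2, 5, 1, 7], 0),
    ([6, 7, 3, 2, 1, 4, 3, 2, 7, 6, 5], 0),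
    ([6, 5, 1, 0, 2, 1, 3, 2, 5, 1, 6, 7, 6], 0),
    ([6, 7, 3, 2, 1, 4, 3, 7, 6], 0),
    ([6, 7, 3, 2, 1, 4, 3, 2, 7], 0),
    ([6, 5, 1, 2, 3, 4, 7, 3, 2, 1, 4], 0),
    ([6, 5, 1, 0, 2, 1, 3, 4, 5], 3),
    ([6, 5, 1, 0, 2, 1, 3, 4, 5, 6, 7], 3),
    ([6, 5, 1, 0, 2, 1, 3, 2, 4], 3),
    ([6, 5, 1, 0, 2, 1, 3, 2, 4, 5, 7], 1),
    ([6, 5, 1, 0, 2, 1, 3, 2, 4, 3, 7, 3, 2], 1),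
    ([6, 5, 1, 0, 2, 1, 3, 2, 4, 5, 1, 7, 3], 0),
    ([6, 5, 1, 0, 2, 1, 3, 2, 4, 5, 1, 7, 6], 0),
    ([6, 5, 1, 2, 3, 4, 7, 3, 2, 1, 6], 0),
    ([6, 5, 1, 2, 3, 4, 7, 3, 2], 0),
    ([6, 5, 1, 0, 2, 1, 3, 2, 4, 3, 7], 4),
    ([6, 5, 1, 0, 2, 1, 3, 2, 4, 3, 5, 7, 3], 1),
    ([6, 5, 1, 2, 3, 4, 7, 3, 6, 5, 1], 0),
    ([6, 7, 3, 2, 1, 4, 5, 6, 7, 3, 2], 0),
    ([6, 5, 1, 2, 3, 4, 7, 6, 5], 0),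
    ([6, 5, 1, 2, 3, 7, 6, 5, 1], 0),
    ([6, 5, 1, 0, 2, 1, 3, 2, 5, 1, 0, 6, 5, 1, 2, 3], 7),
    ([6, 5, 1, 2, 3, 7, 6, 5, 1, 0, 2, 1, 5, 6], 3),
    ([6, 5, 1, 2, 3, 4, 7, 3, 2, 1, 0, 5, 1, 2, 3, 6], 7),
    ([6, 5, 1, 2, 3, 4, 7, 3, 2, 1, 0, 5, 1, 2], 3),
    ([6, 7, 3, 2, 1, 0, 4, 3, 2, 1, 7, 6], 1),
    ([6, 7, 3, 2, 1, 0, 4, 3, 2, 1, 7, 3], 1),
    ([6, 5, 1, 0, 2, 3, 4, 7, 3, 2, 1, 0, 5, 1], 1),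
    ([6, 7, 3, 2, 1, 0, 5, 1, 2, 3], 0),
    ([6, 7, 3, 2, 1, 0, 4, 3, 2, 7, 6, 5], 0),
    ([6, 7, 3, 2, 1, 0, 5, 1, 2, 3, 6, 7], 0),
    ([6, 7, 3, 2, 1, 0, 4, 3, 7, 6], 0),
    ([6, 7, 3, 2, 1, 0, 4, 3, 2, 7], 0),
    ([6, 5, 1, 2, 3, 4, 7, 3, 2, 1, 0, 4], 0),
    ([6, 7, 3, 2, 1, 0, 4, 5, 1, 2, 3, 4], 0),
    ([6, 7, 3, 2, 1, 0, 5, 1, 2, 3, 4, 6], 0),
    ([6, 5, 1, 2, 3, 4, 7, 3, 2, 1, 0, 6], 0),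
    ([6, 5, 1, 0, 2, 3, 4, 7, 3, 2, 1, 0], 0),
    ([6, 5, 1, 2, 3, 4, 7, 3, 6, 5, 1, 0], 0),
    ([6, 7, 3, 2, 1, 0, 4, 5, 1, 2, 3, 7], 0),
    ([6, 5, 1, 2, 3, 7, 6, 5, 1, 0, 2, 1], 1),
    ([6, 5, 1, 0, 2, 3, 4, 7, 6, 5, 1, 0], 0),
    ([6, 5, 1, 2, 3, 7, 6, 5, 1, 0], 0),
    ([6, 5, 1, 0, 2, 1, 5, 6], 7)]

/-- Words from the base point and witnesses. -/
def route2 : List (List Nat × Nat) :=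
  [([6, 5, 1, 0, 2, 1, 3, 5], 3),
    ([6, 5, 1, 0, 2, 1, 3, 5, 6, 7], 3),
    ([6, 5, 1, 0, 2, 1, 3, 2], 3),
    ([6, 5, 1, 0, 2, 1, 3, 2, 5, 7], 1),
    ([6, 5, 1, 0, 2, 1, 3, 2, 5, 6, 7, 3], 1),
    ([6, 5, 1, 0, 2, 1, 3, 2, 5, 6, 7, 6], 1),
    ([6, 5, 7, 3, 2, 1, 0, 5, 1, 2], 0),
    ([6, 5, 1, 0, 2, 1, 3, 2, 5, 1, 7, 6], 0),
    ([6, 7, 3, 2, 1, 4, 3, 7, 6, 5], 0),
    ([6, 7, 3, 2, 1, 4, 3, 2, 5, 7, 6, 5], 0),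
    ([6, 5, 1, 2, 3, 4, 7, 3, 2, 1, 4, 6], 0),
    ([6, 7, 3, 2, 4, 3, 7, 6], 1),
    ([6, 7, 3, 2, 1, 4, 3, 7], 0),
    ([6, 7, 3, 2, 1, 4, 3, 2, 5, 7], 0),
    ([6, 7, 3, 2, 1, 4, 3, 2], 0),
    ([6, 5, 1, 2, 3, 4, 7, 3, 2, 4], 0),
    ([6, 5, 1, 0, 2, 1, 3, 4], 1),
    ([6, 5, 1, 0, 2, 1, 3, 4, 5, 7], 3),
    ([6, 5, 1, 0, 2, 1, 3, 2, 4, 3, 7, 6], 7),
    ([6, 5, 1, 0, 2, 1, 3, 2, 4, 3, 7, 3], 3),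
    ([6, 5, 1, 0, 2, 1, 3, 2, 4, 7], 3),
    ([6, 5, 1, 0, 2, 1, 3, 2, 4, 5, 7, 3], 1),
    ([6, 5, 1, 0, 2, 1, 3, 2, 4, 5, 7, 6], 1),
    ([6, 5, 1, 0, 2, 1, 3, 4, 7, 3, 6, 7], 1),
    ([6, 5, 1, 0, 2, 3, 4, 7, 3, 2, 1, 6], 0),
    ([6, 5, 1, 0, 2, 1, 3, 5, 7, 6, 5, 1], 0),
    ([6, 5, 1, 0, 2, 1, 3, 4, 7, 3, 2, 1], 0),
    ([6, 5, 1, 0, 2, 3, 4, 7, 3, 6, 5, 1], 0),
    ([6, 5, 1, 2, 3, 4, 7, 3, 2, 6], 0),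
    ([6, 5, 1, 0, 2, 3, 4, 7, 3, 2], 0),
    ([6, 5, 1, 2, 3, 4, 7, 3], 0),
    ([6, 5, 1, 0, 2, 1, 3, 5, 6, 7, 6, 5], 1),
    ([6, 5, 1, 2, 3, 4, 7, 3, 6, 5], 0),
    ([6, 7, 3, 2, 1, 4, 5, 6, 7, 3], 0),
    ([6, 5, 1, 0, 2, 3, 4, 7, 6, 5], 0),
    ([6, 5, 1, 2, 3, 7, 6, 5], 0),
    ([6, 5, 1, 2, 3, 4, 7, 6], 0),
    ([6, 7, 3, 2, 1, 5, 6, 7], 0),
    ([6, 5, 1, 2, 3, 7, 6, 5, 1, 0, 2, 1, 5], 3),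
    ([6, 7, 3, 2, 1, 0, 4, 3, 2, 1, 7], 1),
    ([6, 5, 1, 0, 2, 3, 7, 6, 5, 1, 0, 2, 1], 1),
    ([6, 5, 1, 0, 2, 3, 4, 7, 3, 2, 1, 0, 5], 0),
    ([6, 7, 3, 2, 1, 0, 5, 1, 2], 0),
    ([6, 7, 3, 2, 1, 0, 5, 1, 2, 3, 6], 0),
    ([6, 7, 3, 2, 1, 0, 4, 3, 7, 6, 5], 0),
    ([6, 7, 3, 2, 1, 0, 4, 3, 2, 1, 5, 1, 2], 0),
    ([6, 5, 1, 2, 3, 4, 7, 3, 2, 1, 0, 4, 6], 0),
    ([6, 7, 3, 2, 1, 0, 4, 3, 7], 0),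
    ([6, 7, 3, 2, 1, 0, 4, 3, 2, 5, 7], 0),
    ([6, 7, 3, 2, 1, 0, 4, 3, 2], 0),
    ([6, 5, 1, 0, 2, 1, 3, 7, 6, 5, 1, 0, 2], 0),
    ([6, 5, 1, 0, 2, 3, 4, 7, 3, 2, 1, 0, 6], 0),
    ([6, 7, 3, 2, 1, 0, 4, 5, 1, 2, 3], 0),
    ([6, 5, 1, 0, 2, 1, 3, 4, 7, 3, 2, 1, 0], 0),
    ([6, 5, 1, 0, 2, 3, 4, 7, 3, 6, 5, 1, 0], 0),
    ([6, 5, 1, 0, 2, 3, 4, 7, 3, 2, 1], 0),
    ([6, 7, 3, 2, 1, 0, 4, 5, 6, 7, 3], 0),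
    ([6, 5, 1, 0, 2, 3, 4, 7, 6, 5, 1], 0),
    ([6, 5, 1, 0, 2, 3, 7, 6, 5, 1, 0], 0),
    ([6, 7, 3, 2, 1, 0, 5, 6, 7], 0),
    ([6, 5, 1, 0, 2, 1, 5], 4),
    ([6, 5, 1, 0, 2, 1, 3], 1),
    ([6, 5, 1, 0, 2, 1, 3, 5, 7], 3),
    ([6, 5, 1, 0, 2, 1, 3, 5, 6, 7, 6], 3)]

/-- Words from the base point and witnesses. -/
def route3 : List (List Nat × Nat) :=
  [([6, 5, 1, 0, 2, 1, 3, 2, 7], 3),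
    ([6, 5, 1, 0, 2, 1, 3, 2, 5, 7, 3], 1),
    ([6, 5, 1, 0, 2, 1, 3, 2, 5, 7, 6], 1),
    ([6, 5, 1, 0, 2, 1, 3, 2, 5, 6, 7, 3, 6], 1),
    ([6, 5, 1, 0, 2, 1, 3, 2, 5, 6, 7, 6, 5], 1),
    ([6, 5, 7, 3, 2, 1, 0, 5, 1], 0),
    ([6, 5, 7, 3, 2, 1, 0, 4, 5, 1, 2], 0),
    ([6, 5, 7, 3, 2, 1, 0, 5, 1, 2, 6], 0),
    ([6, 5, 1, 0, 2, 1, 3, 2, 5, 1, 7, 6, 5], 0),
    ([6, 7, 3, 2, 1, 4, 3, 5, 7, 6, 5], 0),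
    ([6, 7, 3, 2, 1, 4, 3, 2, 5, 7, 6], 0),
    ([6, 5, 1, 0, 2, 3, 7, 3, 6, 5, 1, 2, 3], 0),
    ([6, 5, 1, 2, 3, 4, 7, 3, 2, 4, 6], 0),
    ([6, 7, 3, 2, 4, 3, 7], 1),
    ([6, 7, 3, 2, 1, 4, 3, 5, 7], 0),
    ([6, 7, 3, 2, 1, 4, 3], 0),
    ([6, 5, 1, 2, 3, 4, 7, 3, 2, 4, 3], 0),
    ([6, 7, 3, 2, 1, 4, 3, 2, 5], 0),
    ([6, 5, 1, 0, 2, 3, 4, 7, 3, 2, 4], 0),
    ([6, 5, 1, 2, 3, 4, 7, 3, 4], 0),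
    ([6, 5, 1, 0, 2, 3, 4], 0),
    ([6, 5, 1, 0, 2, 1, 3, 4, 7], 1),
    ([6, 5, 1, 0, 2, 1, 3, 2, 4, 7, 6], 3),
    ([6, 5, 1, 0, 2, 1, 3, 2, 4, 7, 3], 3),
    ([6, 5, 1, 0, 2, 1, 3, 4, 7, 3, 6], 1),
    ([6, 5, 1, 0, 2, 1, 3, 5, 7, 6, 5], 1),
    ([6, 5, 1, 0, 2, 1, 3, 4, 7, 3, 2], 1),
    ([6, 5, 1, 0, 2, 3, 4, 7, 3, 6, 7], 0),
    ([6, 5, 1, 0, 2, 3, 4, 7, 3, 2, 6], 0),
    ([6, 7, 3, 2, 1, 4, 3, 5, 6, 7, 3], 0),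
    ([6, 5, 1, 0, 2, 1, 3, 7, 6, 5, 1], 0),
    ([6, 5, 1, 0, 2, 3, 4, 7, 3, 6, 5], 0),
    ([6, 5, 1, 2, 3, 4, 7, 3, 6], 0),
    ([6, 5, 1, 0, 2, 3, 4, 7, 3], 0),
    ([6, 5, 1, 2, 3, 4, 7], 0),
    ([6, 5, 1, 2, 3, 4, 7, 3, 4, 6, 5], 0),
    ([6, 7, 3, 2, 1, 4, 5, 6, 7], 0),
    ([6, 5, 1, 0, 2, 3, 7, 6, 5], 0),
    ([6, 5, 1, 0, 2, 3, 4, 7, 6], 0),
    ([6, 5, 1, 2, 3, 7, 3, 6, 5], 0),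
    ([6, 5, 1, 2, 3, 7, 6], 0),
    ([6, 7, 3, 2, 1, 5, 6], 0),
    ([6, 7, 3, 2, 1, 0, 4, 3, 2, 1, 5, 7], 1),
    ([6, 7, 3, 2, 1, 0, 4, 3, 2, 1], 1),
    ([6, 5, 1, 0, 2, 3, 7, 6, 5, 1, 0, 2], 0),
    ([6, 5, 1, 0, 2, 3, 4, 7, 3, 2, 1, 5], 0),
    ([6, 7, 3, 2, 1, 0, 5, 1], 0),
    ([6, 7, 3, 2, 1, 0, 4, 5, 1, 2], 0),
    ([6, 7, 3, 2, 1, 0, 5, 1, 2, 6], 0),
    ([6, 7, 3, 2, 1, 0, 4, 5, 1, 6, 7, 3], 0),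
    ([6, 7, 3, 2, 1, 0, 4, 3, 2, 1, 5, 6], 1),
    ([6, 7, 3, 2, 1, 0, 4, 3, 2, 1, 5, 1], 0),
    ([6, 7, 3, 2, 1, 0, 4, 3, 2, 5, 1, 2], 0),
    ([6, 7, 3, 2, 1, 0, 4, 3, 5, 1, 6, 5], 0),
    ([6, 7, 3, 2, 1, 0, 4, 3, 5, 1, 2, 3], 0),
    ([6, 7, 3, 2, 1, 0, 4, 3, 5, 7], 0),
    ([6, 7, 3, 2, 1, 0, 4, 3], 0),
    ([6, 7, 3, 2, 1, 0, 4, 3, 2, 5, 1, 7], 0),
    ([6, 7, 3, 2, 1, 0, 4, 3, 2, 5], 0),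
    ([6, 5, 1, 0, 2, 1, 3, 7, 6, 5, 1, 2], 0),
    ([6, 5, 1, 0, 2, 1, 3, 7, 6, 5, 1, 0], 0),
    ([6, 7, 3, 2, 1, 0, 4, 5, 6, 7], 0),
    ([6, 5, 1, 0, 2, 3, 7, 6, 5, 1], 0),
    ([6, 7, 3, 2, 1, 0, 5, 1, 6, 7], 0)]

/-- Words from the base point and witnesses. -/
def route4 : List (List Nat × Nat) :=
  [([6, 7, 3, 2, 1, 0, 5, 6], 0),
    ([6, 5, 1, 0, 2, 1], 1),
    ([6, 5, 1, 0, 2, 1, 5, 7], 4),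
    ([6, 5, 1, 0, 2, 3], 0),
    ([6, 5, 1, 0, 2, 1, 3, 7], 1),
    ([6, 5, 1, 0, 2, 1, 3, 5, 7, 3], 3),
    ([6, 5, 1, 0, 2, 1, 3, 5, 7, 6], 3),
    ([6, 5, 1, 0, 2, 1, 3, 2, 7, 3], 3),
    ([6, 5, 1, 0, 2, 1, 3, 2, 7, 6], 3),
    ([6, 5, 1, 7, 3, 2, 1, 0, 5, 1], 1),
    ([6, 5, 1, 0, 2, 1, 3, 2, 5, 7, 3, 4], 1),
    ([6, 5, 1, 0, 2, 1, 3, 2, 5, 7, 3, 6], 1),
    ([6, 5, 1, 0, 2, 1, 3, 2, 5, 7, 6, 5], 1),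
    ([6, 5, 1, 0, 2, 1, 3, 2, 5, 6, 7, 3, 6, 5], 1),
    ([6, 5, 1, 0, 2, 1, 3, 2, 5, 6, 7, 3, 6, 7], 1),
    ([6, 5, 1, 0, 2, 3, 4, 7, 3, 4, 6, 7], 0),
    ([6, 5, 7, 3, 2, 1, 0, 5], 0),
    ([6, 5, 7, 3, 2, 1, 0, 4, 5, 1], 0),
    ([6, 5, 7, 3, 2, 1, 0, 5, 1, 6], 0),
    ([6, 5, 1, 0, 2, 1, 3, 7, 3, 6, 5, 1], 0),
    ([6, 5, 1, 0, 2, 3, 7, 3, 4, 6, 5, 1], 0),
    ([6, 5, 1, 0, 2, 3, 7, 3, 6, 5, 1, 2], 0),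
    ([6, 5, 1, 0, 2, 3, 4, 7, 3, 4, 6, 5], 0),
    ([6, 7, 3, 2, 1, 4, 3, 5, 7, 6], 0),
    ([6, 5, 1, 0, 2, 3, 7, 6, 5, 1, 2, 3], 0),
    ([6, 5, 1, 2, 3, 4, 7, 3, 2, 4, 3, 6], 0),
    ([6, 5, 7, 3, 2, 1, 0, 4, 3, 5, 1, 6], 0),
    ([6, 5, 1, 0, 2, 3, 4, 7, 3, 2, 4, 6], 0),
    ([6, 5, 1, 2, 3, 4, 7, 3, 4, 6], 0),
    ([6, 5, 7, 3, 2, 4, 3, 7], 1),
    ([6, 7, 3, 2, 4, 3], 1),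
    ([6, 5, 7, 3, 2, 1, 4, 3, 5, 7], 0),
    ([6, 7, 3, 2, 1, 4, 3, 5], 0),
    ([6, 7, 3, 2, 1, 4], 0),
    ([6, 5, 1, 0, 2, 3, 4, 7, 3, 2, 4, 3], 0),
    ([6, 5, 1, 2, 3, 7, 3, 2, 4, 3], 0),
    ([6, 7, 3, 2, 1, 4, 3, 2, 5, 1], 0),
    ([6, 7, 3, 2, 1, 4, 3, 2, 5, 6], 0),
    ([6, 5, 1, 0, 2, 3, 4, 7, 3, 4], 0),
    ([6, 5, 1, 2, 3, 7, 3, 4], 0),
    ([6, 5, 1, 2, 3, 4], 0),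
    ([6, 5, 1, 0, 2, 3, 4, 7], 0),
    ([6, 5, 1, 0, 2, 1, 3, 4, 7, 3], 1),
    ([6, 5, 1, 0, 2, 1, 3, 4, 7, 6], 1),
    ([6, 5, 1, 0, 2, 3, 4, 7, 3, 6], 0),
    ([6, 5, 1, 0, 2, 1, 3, 7, 6, 5], 1),
    ([6, 5, 1, 2, 3, 4, 7, 3, 6, 7], 0),
    ([6, 7, 3, 2, 1, 4, 3, 5, 6, 7], 0),
    ([6, 5, 1, 2, 3, 7], 0),
    ([6, 5, 1, 2, 3, 7, 3, 4, 6, 5], 0),
    ([6, 7, 3, 2, 1, 4, 5, 6], 0),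
    ([6, 5, 1, 0, 2, 3, 7, 3, 6, 5], 0),
    ([6, 5, 1, 0, 2, 3, 7, 6], 0),
    ([6, 5, 1, 2, 3, 7, 3, 2, 6, 5], 0),
    ([6, 5, 1, 2, 3, 7, 3, 6], 0),
    ([6, 5, 7, 3, 2, 1, 5, 6], 0),
    ([6, 7, 3, 2, 1, 5], 0),
    ([6, 5, 1, 0, 2, 3, 7, 6, 5, 1, 0, 2, 3], 0),
    ([6, 7, 3, 2, 1, 0, 4, 3, 2, 1, 5], 1),
    ([6, 5, 1, 0, 2, 3, 7, 6, 5, 1, 2], 0),
    ([6, 7, 3, 2, 1, 0, 5], 0),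
    ([6, 7, 3, 2, 1, 0, 4, 5, 1], 0),
    ([6, 7, 3, 2, 1, 0, 5, 1, 6], 0),
    ([6, 7, 3, 2, 1, 0, 4, 5, 1, 2, 6], 0)]

/-- Words from the base point and witnesses. -/
def route5 : List (List Nat × Nat) :=
  [([6, 7, 3, 2, 1, 0, 4, 5, 1, 6, 7], 0),
    ([6, 7, 3, 2, 1, 0, 4, 5, 1, 6, 5], 0),
    ([6, 7, 3, 2, 1, 0, 4, 3, 2, 5, 1], 0),
    ([6, 7, 3, 2, 1, 0, 4, 3, 5, 1, 2], 0),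
    ([6, 7, 3, 2, 1, 0, 4, 3, 5, 1, 6], 0),
    ([6, 7, 3, 2, 1, 0, 4, 3, 2, 5, 6], 0),
    ([6, 7, 3, 2, 1, 0, 4, 3, 5], 0),
    ([6, 7, 3, 2, 1, 0, 4], 0),
    ([6, 7, 3, 2, 1, 4, 3, 5, 6, 7, 6], 0),
    ([6, 7, 3, 2, 1, 0, 4, 5, 6], 0),
    ([6, 5, 1, 0, 2, 3, 7, 3, 6, 5, 1], 0),
    ([6, 5, 1, 0, 2], 0),
    ([6, 5, 1, 0, 2, 1, 7], 1),
    ([6, 5, 1, 0, 2, 1, 5, 7, 3], 3),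
    ([6, 5, 1, 2, 3], 0),
    ([6, 5, 1, 0, 2, 3, 7], 0),
    ([6, 5, 1, 0, 2, 1, 3, 7, 3], 1),
    ([6, 5, 1, 0, 2, 1, 3, 7, 6], 1),
    ([6, 5, 1, 0, 2, 1, 3, 5, 7, 3, 2], 1),
    ([6, 5, 1, 0, 2, 1, 3, 2, 7, 3, 6], 3),
    ([6, 5, 1, 0, 2, 1, 3, 2, 7, 3, 4], 3),
    ([6, 5, 1, 0, 2, 1, 3, 2, 7, 3, 2], 1),
    ([6, 5, 1, 0, 2, 1, 3, 2, 7, 6, 5], 1),
    ([6, 5, 1, 7, 3, 2, 1, 0, 5], 0),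
    ([6, 5, 1, 7, 3, 2, 1, 0, 4, 5, 1], 1),
    ([6, 5, 1, 7, 3, 2, 1, 0, 5, 1, 6], 1),
    ([6, 5, 1, 0, 2, 1, 3, 7, 3, 6, 5], 1),
    ([6, 5, 1, 0, 2, 1, 3, 7, 3, 4, 6], 1),
    ([6, 5, 1, 0, 2, 1, 3, 2, 5, 7, 3, 6, 7], 1),
    ([6, 5, 1, 0, 2, 3, 4, 7, 3, 4, 6], 0),
    ([6, 5, 1, 0, 2, 3, 4, 7, 3, 4, 6, 7, 3], 0),
    ([6, 5, 1, 0, 2, 1, 3, 7, 3, 4, 6, 7, 3], 1),
    ([6, 5, 1, 2, 3, 4, 7, 3, 4, 6, 7], 0),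
    ([6, 5, 7, 3, 2, 1, 5], 0),
    ([6, 5, 7, 3, 2, 1, 0, 4, 5], 0),
    ([6, 5, 7, 3, 2, 1, 0], 0),
    ([6, 5, 7, 3, 2, 1, 0, 5, 6], 0),
    ([6, 5, 7, 3, 2, 1, 0, 4, 3, 5, 1], 0),
    ([6, 5, 7, 3, 2, 1, 0, 4, 5, 1, 6], 0),
    ([6, 5, 7, 3, 2, 1, 0, 5, 1, 6, 5], 0),
    ([6, 5, 1, 0, 2, 3, 7, 3, 4, 6, 5], 0),
    ([6, 5, 7, 3, 2, 1, 4, 3, 5, 7, 6], 0),
    ([6, 5, 7, 3, 2, 1, 4, 3, 5, 6, 7], 0),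
    ([6, 5, 1, 2, 3, 7, 3, 2, 4, 3, 6], 0),
    ([6, 5, 7, 3, 2, 1, 0, 4, 3, 5, 6], 0),
    ([6, 5, 1, 2, 3, 7, 3, 4, 6], 0),
    ([6, 5, 7, 3, 2, 1, 4, 3, 7], 0),
    ([6, 5, 7, 3, 2, 4, 3], 1),
    ([6, 7, 3, 2, 4], 1),
    ([6, 5, 7, 3, 2, 1, 0, 4, 3, 5, 7], 0),
    ([6, 5, 1, 2, 3, 7, 3, 2, 1, 4, 3], 0),
    ([6, 5, 7, 3, 2, 1, 4, 3, 5], 0),
    ([6, 7, 3, 2, 1, 4, 5], 0),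
    ([6, 7, 3, 2, 1, 4, 3, 5, 6], 0),
    ([6, 7, 3, 2, 1], 0),
    ([6, 5, 1, 0, 2, 3, 7, 3, 2, 4, 3], 0),
    ([6, 5, 1, 2, 3, 7, 3, 2, 4], 0),
    ([6, 5, 1, 2, 3, 7, 3, 2, 4, 3, 7], 0),
    ([6, 5, 1, 0, 2, 3, 7, 3, 4], 0),
    ([6, 5, 1, 2, 3, 7, 3], 0),
    ([6, 5, 1, 2, 7, 3, 4], 0),
    ([6, 5, 1, 2, 3, 7, 3, 2, 4, 6, 5], 0),
    ([6, 5, 7, 3, 2, 1, 4, 5, 6], 0),
    ([6, 5, 1, 0, 2, 3, 7, 3, 2, 6, 5], 0)]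

/-- Words from the base point and witnesses. -/
def route6 : List (List Nat × Nat) :=
  [([6, 5, 1, 0, 2, 3, 7, 3, 6], 0),
    ([6, 5, 1, 2, 3, 7, 3, 2, 6], 0),
    ([6, 5, 1, 7, 3, 2, 1, 5, 6], 0),
    ([6, 5, 1, 2, 3, 7, 3, 6, 7], 0),
    ([6, 7, 3, 2, 1, 0, 4, 5], 0),
    ([6, 7, 3, 2, 1, 0], 0),
    ([6, 7, 3, 2, 1, 0, 4, 3, 5, 1], 0),
    ([6, 7, 3, 2, 1, 0, 4, 5, 1, 6], 0),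
    ([6, 7, 3, 2, 1, 0, 5, 1, 6, 5], 0),
    ([6, 7, 3, 2, 1, 0, 4, 3, 5, 6], 0),
    ([6, 5, 1, 2], 0),
    ([6, 5, 1, 0], 0),
    ([6, 5, 1, 0, 2, 7], 0),
    ([6, 5, 1, 0, 2, 1, 7, 3], 1),
    ([6, 5, 1, 0, 2, 1, 7, 6], 1),
    ([6, 5, 1, 0, 2, 1, 5, 7, 3, 2], 1),
    ([6, 5, 1, 0, 2, 1, 5, 7, 3, 4], 3),
    ([6, 5, 1, 0, 2, 3, 7, 3], 0),
    ([6, 5, 1, 0, 2, 1, 3, 7, 3, 2], 1),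
    ([6, 5, 1, 0, 2, 1, 3, 7, 3, 4], 1),
    ([6, 5, 1, 0, 2, 1, 3, 7, 3, 6], 1),
    ([6, 5, 1, 2, 7, 3, 2, 1, 0, 5], 0),
    ([6, 5, 1, 0, 2, 1, 3, 2, 7, 3, 2, 6], 1),
    ([6, 5, 1, 0, 2, 1, 3, 2, 7, 3, 2, 4], 1),
    ([6, 5, 1, 0, 7, 3, 2, 1, 0, 5], 0),
    ([6, 5, 1, 7, 3, 2, 1, 5], 0),
    ([6, 5, 1, 7, 3, 2, 1, 0, 4, 5], 0),
    ([6, 5, 1, 7, 3, 2, 1, 0], 0),
    ([6, 5, 1, 7, 3, 2, 1, 0, 5, 6], 0),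
    ([6, 5, 1, 0, 2, 1, 3, 7, 3, 2, 4, 6], 1),
    ([6, 5, 1, 0, 2, 1, 3, 7, 3, 2, 4, 3], 1),
    ([6, 5, 1, 0, 2, 3, 7, 3, 2, 6, 5, 1], 1),
    ([6, 5, 1, 0, 2, 1, 3, 7, 3, 6, 5, 7], 1),
    ([6, 5, 1, 0, 2, 3, 7, 3, 4, 6], 0),
    ([6, 5, 1, 0, 2, 1, 3, 7, 3, 4, 6, 7], 1),
    ([6, 5, 1, 2, 3, 4, 7, 3, 4, 6, 7, 3], 0),
    ([6, 5, 1, 2, 3, 7, 3, 2, 4, 3, 6, 5], 0),
    ([6, 5, 1, 0, 2, 3, 7, 3, 4, 6, 7, 3], 0),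
    ([6, 5, 1, 0, 2, 1, 7, 3, 4, 6, 7, 3], 1),
    ([6, 5, 7, 3, 2, 1, 4, 5], 0),
    ([6, 5, 7, 3, 2, 1], 0),
    ([6, 5, 7, 3, 2, 1, 0, 4, 3, 5], 0),
    ([6, 5, 7, 3, 2, 1, 0, 4], 0),
    ([6, 5, 7, 3, 2, 1, 0, 4, 5, 6], 0),
    ([6, 5, 7, 3, 2, 1, 0, 6], 0),
    ([6, 5, 1, 0, 2, 3, 7, 3, 6, 7], 0),
    ([6, 5, 1, 0, 2, 3, 7, 3, 2, 4, 6, 5], 0),
    ([6, 5, 1, 0, 2, 3, 7, 3, 2, 4, 3, 7], 0),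
    ([6, 5, 1, 0, 2, 3, 7, 3, 2, 4, 3, 6], 0),
    ([6, 5, 7, 3, 2, 1, 4, 3, 5, 6], 0),
    ([6, 5, 1, 2, 3, 7, 3, 2, 4, 6], 0),
    ([6, 5, 1, 0, 2, 3, 7, 3, 2, 1, 4, 3], 0),
    ([6, 5, 1, 2, 3, 7, 3, 4, 6, 7], 0),
    ([6, 5, 7, 3, 2, 1, 0, 4, 3, 7], 0),
    ([6, 5, 7, 3, 2, 1, 4, 3, 2, 7], 0),
    ([6, 5, 7, 3, 2, 1, 4, 3], 0),
    ([6, 5, 7, 3, 2, 4], 1),
    ([6, 5, 7, 3, 2, 4, 3, 6], 1),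
    ([6, 7, 3, 4], 3),
    ([6, 7, 3, 2], 1),
    ([6, 5, 1, 2, 3, 7, 3, 2, 1, 0, 4, 3], 0),
    ([6, 5, 1, 2, 3, 7, 3, 2, 1, 4], 0),
    ([6, 5, 7, 3, 2, 1, 4, 3, 2, 5], 0),
    ([6, 5, 1, 0, 2, 3, 7, 3, 2, 4], 0)]

/-- Words from the base point and witnesses. -/
def route7 : List (List Nat × Nat) :=
  [([6, 5, 1, 2, 3, 7, 3, 2], 0),
    ([6, 5, 1, 2, 7, 3, 2, 4], 0),
    ([6, 5, 1, 2, 7, 3, 2, 4, 3, 7], 0),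
    ([6, 5, 1, 0, 2, 7, 3, 4], 0),
    ([6, 5, 1, 2, 7, 3], 0),
    ([6, 5, 1, 2, 7, 3, 4, 6], 0),
    ([6, 5, 1, 7, 3, 2, 1, 4, 5, 6], 0),
    ([6, 5, 1, 0, 2, 3, 7, 3, 2, 6], 0),
    ([6, 5, 1, 0, 7, 3, 2, 4, 3, 7], 0),
    ([6, 5, 1, 0, 7, 3, 2, 1, 4, 3], 0),
    ([6, 5, 1, 0, 7, 3, 2, 1, 4, 5], 0),
    ([6, 5, 1, 2, 7, 3, 6, 7], 0),
    ([6, 5, 1], 0),
    ([6, 5, 1, 2, 7], 0),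
    ([6, 5, 1, 0, 7], 0),
    ([6, 5, 1, 0, 2, 7, 3], 0),
    ([6, 5, 1, 0, 2, 7, 6], 0),
    ([6, 5, 1, 0, 2, 1, 7, 3, 2], 1),
    ([6, 5, 1, 0, 2, 1, 7, 3, 4], 1),
    ([6, 5, 1, 0, 2, 1, 7, 3, 6], 1),
    ([6, 5, 1, 0, 2, 1, 5, 7, 3, 2, 1], 0),
    ([6, 5, 1, 0, 2, 1, 5, 7, 3, 2, 4], 1),
    ([6, 5, 1, 0, 2, 3, 7, 3, 2], 0),
    ([6, 5, 1, 0, 2, 1, 3, 7, 3, 2, 1], 0),
    ([6, 5, 1, 0, 2, 1, 3, 7, 3, 2, 4], 1),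
    ([6, 5, 1, 0, 2, 1, 3, 7, 3, 2, 6], 1),
    ([6, 5, 1, 0, 2, 1, 3, 7, 3, 6, 7], 1),
    ([6, 5, 1, 2, 7, 3, 2, 1, 5], 0),
    ([6, 5, 1, 0, 7, 3, 2, 1, 0, 5, 6], 0),
    ([6, 5, 1, 2, 7, 3, 2, 1, 0], 0),
    ([6, 5, 1, 0, 7, 3, 2, 1, 0, 4, 5], 0),
    ([6, 5, 1, 0, 7, 3, 2, 1, 5], 0),
    ([6, 5, 1, 0, 7, 3, 2, 1, 0], 0),
    ([6, 5, 1, 7, 3, 2, 1, 4, 5], 0),
    ([6, 5, 1, 7, 3, 2, 1], 0),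
    ([6, 5, 1, 7, 3, 2, 1, 0, 4, 3, 5], 0),
    ([6, 5, 1, 7, 3, 2, 1, 0, 4], 0),
    ([6, 5, 1, 7, 3, 2, 1, 0, 4, 5, 6], 0),
    ([6, 5, 1, 7, 3, 2, 1, 0, 6], 0),
    ([6, 5, 1, 0, 2, 3, 7, 3, 2, 6, 7], 0),
    ([6, 5, 1, 0, 2, 1, 3, 7, 3, 2, 4, 6, 7], 1),
    ([6, 5, 1, 0, 2, 1, 3, 7, 3, 2, 4, 3, 7], 1),
    ([6, 5, 1, 0, 2, 3, 7, 3, 2, 4, 6], 0),
    ([6, 5, 1, 0, 2, 3, 7, 3, 4, 6, 7], 0),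
    ([6, 5, 1, 0, 2, 1, 7, 3, 4, 6, 7], 1),
    ([6, 5, 1, 0, 2, 1, 7, 3, 2, 1, 4, 3, 7], 0),
    ([6, 5, 1, 2, 3, 7, 3, 4, 6, 7, 3], 0),
    ([6, 5, 1, 0, 2, 1, 7, 3, 2, 1, 0, 4, 3], 0),
    ([6, 5, 1, 0, 2, 7, 3, 4, 6, 7, 3], 0),
    ([6, 5, 7, 3, 2, 1, 4], 0),
    ([6, 5, 7, 3, 2], 1),
    ([6, 5, 7, 3, 2, 1, 6], 0),
    ([6, 5, 7, 3, 2, 1, 0, 4, 3, 2, 5], 0),
    ([6, 5, 7, 3, 2, 1, 0, 4, 3], 0),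
    ([6, 5, 7, 3, 2, 1, 0, 4, 6], 0),
    ([6, 5, 1, 0, 2, 7, 3, 6, 7], 0),
    ([6, 5, 1, 0, 2, 7, 3, 6, 5], 0),
    ([6, 5, 1, 0, 2, 7, 3, 2, 4, 3, 7], 0),
    ([6, 5, 7, 3, 2, 1, 4, 3, 2, 5, 6], 0),
    ([6, 5, 1, 0, 2, 7, 3, 2, 1, 4, 3], 0),
    ([6, 5, 1, 0, 2, 3, 7, 3, 2, 1, 4], 0),
    ([6, 5, 1, 2, 7, 3, 4, 6, 7], 0),
    ([6, 5, 7, 3, 2, 1, 0, 4, 3, 2, 7], 0),
    ([6, 5, 1, 0, 7, 3, 2, 1, 5, 6, 7], 0)]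

/-- Words from the base point and witnesses. -/
def route8 : List (List Nat × Nat) :=
  [([6, 5, 7, 3, 2, 1, 4, 3, 2], 0),
    ([6, 5, 7, 3, 2, 1, 4, 3, 6], 0),
    ([6, 5, 7, 3, 4], 1),
    ([6, 5, 7, 3, 2, 4, 6], 1),
    ([6, 7, 3], 3),
    ([6, 5, 1, 2, 3, 7, 3, 2, 1, 0, 4], 0),
    ([6, 5, 1, 2, 3, 7, 3, 2, 1], 0),
    ([6, 5, 1, 2, 7, 3, 2, 1, 4], 0),
    ([6, 5, 1, 2, 7, 3, 2, 1, 4, 3, 7], 0),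
    ([6, 5, 1, 0, 2, 7, 3, 2, 4], 0),
    ([6, 5, 1, 2, 7, 3, 2], 0),
    ([6, 5, 1, 2, 7, 3, 2, 4, 3], 0),
    ([6, 5, 1, 2, 7, 3, 2, 4, 6], 0),
    ([6, 5, 1, 7, 3, 2, 4, 3, 7], 0),
    ([6, 5, 1, 0, 2, 7, 3, 4, 6], 0),
    ([6, 5, 1, 2, 7, 3, 6], 0),
    ([6, 5, 1, 2, 7, 3, 4, 6, 5], 0),
    ([6, 5, 1, 0, 2, 7, 3, 2, 1, 4, 5], 0),
    ([6, 5, 1, 0, 2, 3, 7, 3, 2, 1, 6], 0),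
    ([6, 5, 1, 0, 7, 3, 2, 4, 3], 0),
    ([6, 5, 1, 0, 7, 3, 2, 1, 4], 0),
    ([6, 5, 1, 2, 7, 3, 2, 6, 7], 0),
    ([6, 5], 1),
    ([6, 5, 1, 7], 0),
    ([6, 5, 1, 2, 7, 6], 0),
    ([6, 5, 1, 0, 7, 3], 0),
    ([6, 5, 1, 0, 7, 6], 0),
    ([6, 5, 1, 0, 2, 7, 3, 2], 0),
    ([6, 5, 1, 0, 2, 7, 3, 6], 0),
    ([6, 5, 1, 0, 2, 7, 6, 5], 0),
    ([6, 5, 1, 0, 2, 1, 7, 3, 2, 1], 0),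
    ([6, 5, 1, 0, 2, 1, 7, 3, 2, 4], 1),
    ([6, 5, 1, 0, 2, 1, 7, 3, 2, 6], 1),
    ([6, 5, 1, 0, 2, 1, 7, 3, 4, 6], 1),
    ([6, 5, 1, 0, 2, 1, 7, 3, 6, 7], 1),
    ([6, 5, 1, 2, 3, 7, 3, 2, 1, 5], 0),
    ([6, 5, 1, 0, 2, 1, 5, 7, 3, 2, 1, 4], 0),
    ([6, 5, 1, 2, 3, 7, 3, 2, 1, 0], 0),
    ([6, 5, 1, 0, 2, 1, 5, 7, 3, 2, 4, 3], 1),
    ([6, 5, 1, 0, 2, 3, 7, 3, 2, 1], 0),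
    ([6, 5, 1, 0, 2, 7, 3, 2, 1, 5], 0),
    ([6, 5, 1, 0, 2, 1, 3, 7, 3, 2, 1, 4], 0),
    ([6, 5, 1, 0, 2, 7, 3, 2, 1, 0], 0),
    ([6, 5, 1, 0, 2, 1, 3, 7, 3, 2, 1, 6], 0),
    ([6, 5, 1, 0, 2, 1, 3, 7, 3, 2, 6, 7], 1),
    ([6, 5, 1, 0, 7, 3, 2, 1, 5, 6], 0),
    ([6, 5, 1, 2, 7, 3, 2, 1], 0),
    ([6, 5, 1, 2, 7, 3, 2, 1, 0, 4], 0),
    ([6, 5, 1, 2, 7, 3, 2, 1, 0, 6], 0),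
    ([6, 5, 1, 0, 7, 3, 2, 1, 0, 4], 0),
    ([6, 5, 1, 0, 7, 3, 2, 1], 0),
    ([6, 5, 1, 0, 7, 3, 2, 1, 0, 6], 0),
    ([6, 5, 1, 7, 3, 2, 1, 4, 3, 5], 0),
    ([6, 5, 1, 7, 3, 2, 1, 4], 0),
    ([6, 5, 1, 7, 3, 2], 0),
    ([6, 5, 1, 7, 3, 2, 1, 6], 0),
    ([6, 5, 1, 0, 2, 3, 7, 3, 2, 1, 4, 6], 0),
    ([6, 5, 1, 7, 3, 2, 1, 0, 4, 3], 0),
    ([6, 5, 1, 0, 2, 3, 7, 3, 2, 1, 6, 5], 0),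
    ([6, 5, 1, 7, 3, 2, 1, 0, 4, 6], 0),
    ([6, 5, 1, 0, 2, 3, 7, 3, 2, 4, 6, 7], 0),
    ([6, 5, 1, 0, 2, 7, 3, 2, 6, 7], 0),
    ([6, 5, 1, 0, 2, 7, 3, 2, 6, 5], 0),
    ([6, 5, 1, 0, 2, 1, 7, 3, 2, 4, 6, 7], 1)]

/-- Words from the base point and witnesses. -/
def route9 : List (List Nat × Nat) :=
  [([6, 5, 1, 0, 2, 1, 7, 3, 2, 4, 3, 7], 1),
    ([6, 5, 1, 0, 2, 7, 3, 4, 6, 7], 0),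
    ([6, 5, 1, 0, 2, 1, 7, 3, 2, 1, 4, 3], 0),
    ([6, 5, 1, 2, 7, 3, 4, 6, 7, 3], 0),
    ([6, 5, 1, 0, 2, 1, 7, 3, 2, 1, 0, 4], 0),
    ([6, 5, 1, 0, 2, 7, 3, 4, 6, 7, 3, 2], 0),
    ([6, 5, 7, 3, 2, 1, 0, 4, 3, 6], 0),
    ([6, 5, 7, 3, 2, 1, 4, 6], 0),
    ([6, 5, 7, 3], 1),
    ([6, 5, 7, 3, 2, 6], 1),
    ([6, 5, 1, 2, 7, 3, 6, 5], 0),
    ([6, 5, 7, 3, 2, 1, 0, 4, 3, 2], 0),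
    ([6, 5, 1, 0, 2, 7, 3, 4, 6, 5], 0),
    ([6, 5, 1, 0, 2, 7, 3, 2, 4, 3], 0),
    ([6, 5, 1, 0, 2, 1, 7, 3, 2, 1, 4, 5], 0),
    ([6, 5, 1, 0, 2, 7, 3, 2, 1, 4], 0),
    ([6, 5, 1, 2, 7, 3, 2, 4, 6, 7], 0),
    ([6, 5, 1, 7, 3, 2, 1, 4, 3, 2], 0),
    ([6, 5, 7, 3, 2, 1, 4, 3, 2, 6], 0),
    ([6, 5, 1, 7, 3, 4], 0),
    ([6, 5, 7, 3, 4, 6], 1),
    ([6, 5, 7, 3, 2, 4, 6, 7], 1),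
    ([6, 7], 4),
    ([6, 5, 1, 2, 7, 3, 2, 1, 4, 3], 0),
    ([6, 5, 1, 0, 7, 3, 2, 1, 6, 5], 0),
    ([6, 5, 1, 7, 3, 2, 1, 4, 3, 7], 0),
    ([6, 5, 1, 0, 2, 7, 3, 2, 4, 6], 0),
    ([6, 5, 1, 2, 7, 3, 2, 6], 0),
    ([6, 5, 1, 7, 3, 2, 4, 3], 0),
    ([6, 5, 1, 2, 7, 3, 2, 4, 3, 6], 0),
    ([6, 5, 1, 0, 7, 3, 2, 6, 5, 1], 0),
    ([6, 5, 1, 0, 7, 3, 2, 4], 0),
    ([6, 5, 1, 0, 7, 3, 2, 4, 3, 6], 0),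
    ([6, 5, 1, 0, 7, 3, 2, 1, 4, 6], 0),
    ([6], 4),
    ([6, 5, 7], 1),
    ([6, 5, 1, 7, 3], 0),
    ([6, 5, 1, 7, 6], 0),
    ([6, 5, 1, 2, 7, 6, 5], 0),
    ([6, 5, 1, 0, 7, 3, 2], 0),
    ([6, 5, 1, 0, 7, 3, 4], 0),
    ([6, 5, 1, 0, 7, 3, 6], 0),
    ([6, 5, 1, 0, 7, 6, 5], 0),
    ([6, 5, 1, 0, 2, 7, 3, 2, 1], 0),
    ([6, 5, 1, 0, 2, 7, 3, 2, 6], 0),
    ([6, 5, 1, 0, 2, 1, 7, 3, 2, 1, 0], 0),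
    ([6, 5, 1, 0, 2, 1, 7, 3, 2, 1, 4], 0),
    ([6, 5, 1, 0, 2, 1, 7, 3, 2, 1, 5], 0),
    ([6, 5, 1, 0, 2, 1, 7, 3, 2, 1, 6], 0),
    ([6, 5, 1, 0, 2, 1, 7, 3, 2, 4, 3], 1),
    ([6, 5, 1, 0, 2, 1, 7, 3, 2, 4, 6], 1),
    ([6, 5, 1, 0, 2, 1, 7, 3, 2, 6, 7], 1),
    ([6, 5, 7, 3, 2, 1, 0, 4, 3, 2, 1], 1),
    ([6, 5, 1, 0, 2, 7, 3, 2, 1, 5, 6], 0),
    ([6, 5, 1, 0, 2, 7, 3, 2, 1, 0, 4], 0),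
    ([6, 5, 1, 0, 2, 7, 3, 2, 1, 0, 6], 0),
    ([6, 5, 1, 2, 7, 3, 2, 1, 0, 4, 3], 0),
    ([6, 5, 1, 7, 3, 2, 1, 0, 4, 3, 2], 0),
    ([6, 5, 1, 2, 7, 3, 2, 1, 6], 0),
    ([6, 5, 1, 0, 7, 3, 2, 1, 0, 6, 5], 0),
    ([6, 5, 1, 0, 2, 7, 3, 2, 6, 7, 3], 0),
    ([6, 5, 1, 7, 3, 2, 4, 3, 6], 0),
    ([6, 5, 1, 0, 7, 3, 2, 1, 6], 0),
    ([6, 5, 1, 0, 2, 7, 3, 2, 6, 5, 1], 0)]

/-- Words from the base point and witnesses. -/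
def route10 : List (List Nat × Nat) :=
  [([6, 5, 1, 7, 3, 2, 1, 4, 3], 0),
    ([6, 5, 1, 2, 7, 3, 2, 1, 4, 3, 2], 0),
    ([6, 5, 1, 7, 3, 2, 4], 0),
    ([6, 5, 1, 7, 3, 2, 1, 4, 6], 0),
    ([6, 5, 1, 7, 3, 2, 6], 0),
    ([6, 5, 1, 2, 7, 3, 2, 6, 5], 0),
    ([6, 5, 1, 0, 2, 7, 3, 2, 1, 6, 7], 0),
    ([6, 5, 1, 0, 2, 1, 7, 3, 2, 1, 0, 6, 5], 0),
    ([6, 5, 1, 0, 2, 7, 3, 2, 4, 6, 7], 0),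
    ([6, 5, 1, 0, 2, 7, 3, 2, 4, 6, 5], 0),
    ([6, 5, 1, 0, 7, 3, 2, 6, 5], 0),
    ([6, 5, 1, 2, 7, 3, 4, 6, 7, 3, 2], 0),
    ([6, 5, 1, 0, 2, 1, 7, 3, 2, 1, 0, 4, 6], 0),
    ([6, 5, 7, 3, 2, 1, 0, 4, 3, 2, 6], 0),
    ([6, 5, 7, 3, 6], 1),
    ([6, 5, 7, 3, 2, 6, 7], 1),
    ([6, 5, 1, 0, 2, 7, 3, 2, 4, 3, 6], 0),
    ([6, 5, 1, 0, 2, 7, 3, 2, 1, 4, 6], 0),
    ([6, 5, 1, 7, 3, 2, 1, 4, 3, 2, 6], 0),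
    ([6, 5, 1, 7, 3, 4, 6], 0),
    ([6, 5, 7, 3, 4, 6, 7], 1),
    ([6, 5, 1, 0, 2, 7, 3, 2, 1, 6, 5], 0),
    ([6, 5, 1, 0, 7, 3, 2, 4, 6], 0),
    ([6, 5, 1, 7, 3, 2, 6, 5, 1], 0),
    ([], 0),
    ([6, 5, 7, 6], 1),
    ([6, 5, 1, 7, 3, 6], 0),
    ([6, 5, 1, 7, 6, 5], 0),
    ([6, 5, 1, 2, 7, 6, 5, 1], 1),
    ([6, 5, 1, 0, 7, 3, 2, 6], 0),
    ([6, 5, 1, 0, 7, 3, 4, 6], 0),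
    ([6, 5, 1, 0, 7, 3, 6, 5], 0),
    ([6, 5, 1, 0, 7, 3, 6, 7], 0),
    ([6, 5, 1, 0, 7, 6, 5, 1], 1),
    ([6, 5, 1, 0, 2, 7, 3, 2, 1, 6], 0),
    ([6, 5, 1, 0, 2, 1, 7, 3, 2, 1, 0, 6], 0),
    ([6, 5, 1, 0, 2, 1, 7, 3, 2, 1, 4, 6], 0),
    ([6, 5, 1, 0, 2, 1, 7, 3, 2, 1, 6, 5], 0),
    ([6, 5, 1, 0, 2, 1, 7, 3, 2, 1, 6, 7], 0),
    ([6, 5, 1, 0, 2, 1, 7, 3, 2, 4, 3, 6], 1),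
    ([6, 5, 1, 0, 2, 1, 7, 3, 2, 6, 7, 3], 1),
    ([6, 5, 1, 0, 2, 7, 3, 2, 1, 0, 4, 6], 0),
    ([6, 5, 1, 0, 2, 7, 3, 2, 1, 0, 6, 5], 0),
    ([6, 5, 1, 7, 3, 2, 1, 4, 3, 6], 0),
    ([6, 5, 1, 0, 7, 3, 2, 6, 7, 3], 0),
    ([6, 5, 1, 7, 3, 2, 4, 6], 0),
    ([6, 5, 1, 0, 7, 3, 2, 1, 6, 7], 0),
    ([6, 5, 1, 7, 3, 2, 6, 5], 0),
    ([6, 5, 1, 7, 3, 2, 6, 7], 0),
    ([6, 5, 7, 3, 6, 7], 1),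
    ([6, 5, 1, 7, 3, 6, 5], 0),
    ([6, 5, 1, 7, 3, 6, 7], 0),
    ([6, 5, 1, 0, 7, 3, 2, 6, 7], 0)]

/-- Words from the base point and witnesses. -/
def routes : List (List Nat × Nat) :=
  route0 ++ route1 ++ route2 ++ route3 ++ route4 ++ route5 ++ route6 ++ route7 ++ route8 ++ route9 ++ route10

end Cfsg.Lib.CosetEnum.U62Mult
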